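import Groth.Agent.GrAlphaLib.Core
import Groth.Agent.GrModLib6.Chart

/-!
# Locally fractional families over `Proj` of high degree come from the module
-/

set_option autoImplicit false
set_option linter.unusedSectionVars false

universe u

open CategoryTheory AlgebraicGeometry DirectSum

noncomputable section

namespace GrAlphaLib

variable {A σ : Type u} [CommRing A] [SetLike σ A] [AddSubgroupClass σ A] {𝒜 : ℕ → σ} [GradedRing 𝒜]
  {M τ : Type u} [AddCommGroup M] [Module A M] [SetLike τ M] [AddSubgroupClass τ M] {ℳ : ℕ → τ}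
  [SetLike.GradedSMul 𝒜 ℳ] [DirectSum.Decomposition ℳ]

/-- The values at the points of `Proj`. -/
abbrev Val (𝒜 : ℕ → σ) [GradedRing 𝒜] (M : Type u) [AddCommGroup M] [Module A M] : Type u :=
  ∀ x : ProjectiveSpectrum 𝒜, LocalizedModule x.asHomogeneousIdeal.toIdeal.primeCompl M

theorem pow_not_mem {x : ProjectiveSpectrum 𝒜} {f : A} (hx : f ∉ x.asHomogeneousIdeal) (k : ℕ) :
    f ^ k ∉ x.asHomogeneousIdeal := fun h => hx (x.isPrime.mem_of_pow_mem k h)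

/-- A family is one fraction on each standard chart. -/
def ChartFrac (ℳ : ℕ → τ) (n : ℕ) (v : Val 𝒜 M) : Prop :=
  ∀ (d : ℕ) (f : A), 0 < d → f ∈ 𝒜 d → ∃ (k i : ℕ) (m : M), m ∈ ℳ i ∧ (i : ℤ) = k * d + n ∧
    ∀ (x : ProjectiveSpectrum 𝒜) (hx : f ∉ x.asHomogeneousIdeal),
      v x = LocalizedModule.mk m ⟨f ^ k, pow_not_mem hx k⟩

section Sol

variable {ι : Type*} [Fintype ι] (f : ι → A) (d : ι → ℕ)

variable (ℳ) in
/-- The algebraic form of bijectivity of `M_n → Γ(M(n)~)`. -/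
structure Sol (n : ℕ) : Prop where
  inj : ∀ m ∈ ℳ n, (∀ i, ∃ l, f i ^ l • m = 0) → m = 0
  surj : ∀ (k : ℕ) (z : ι → M), (∀ i, z i ∈ ℳ (n + k * d i)) → (∀ i j, f j ^ k • z i = f i ^ k • z j) →
    ∃ m ∈ ℳ n, ∀ i, ∃ l, f i ^ l • (f i ^ k • m - z i) = 0

variable {f d} (hf : ∀ i, f i ∈ 𝒜 (d i)) (hd : ∀ i, 0 < d i)
  (hcov : ∀ x : ProjectiveSpectrum 𝒜, ∃ i, f i ∉ x.asHomogeneousIdeal)

include hf hd

theorem Sol.eq_zero {n : ℕ} (h : Sol ℳ f d n) {m : M} (hm : m ∈ ℳ n) (h0 : ∀ x : ProjectiveSpectrum 𝒜,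
    (LocalizedModule.mk m 1 : LocalizedModule x.asHomogeneousIdeal.toIdeal.primeCompl M) = 0) : m = 0 :=
  h.inj m hm fun i => GrModLib6.exists_pow_smul_eq_zero 𝒜 ℳ (hd i) (hf i) hm fun x _ => ⟨1, h0 x⟩

include hcov in
theorem Sol.exists_mk {n : ℕ} (h : Sol ℳ f d n) (v : Val 𝒜 M) (hv : ChartFrac ℳ n v) :
    ∃ m ∈ ℳ n, ∀ x, v x = LocalizedModule.mk m 1 := by
  classical
  choose k p z hz hp hval using fun t : ι => hv (d t) (f t) (hd t) (hf t)
  let K := Finset.univ.sup k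
  have hkK : ∀ t, k t ≤ K := fun t => Finset.le_sup (Finset.mem_univ t)
  let z₁ : ι → M := fun t => f t ^ (K - k t) • z t
  have hz₁ : ∀ t, z₁ t ∈ ℳ (n + K * d t) := fun t => by
    have h1 : z₁ t ∈ ℳ ((K - k t) * d t + p t) :=
      SetLike.GradedSMul.smul_mem (SetLike.pow_mem_graded (K - k t) (hf t)) (hz t)
    have e : (K - k t) * d t + p t = n + K * d t := by
      have h2 : p t = k t * d t + n := by exact_mod_cast hp t
      have h3 : K * d t = (K - k t) * d t + k t * d t := by rw [← Nat.add_mul, Nat.sub_add_cancel (hkK t)]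
      omega
    rwa [e] at h1
  have hval₁ : ∀ t (x : ProjectiveSpectrum 𝒜) (hx : f t ∉ x.asHomogeneousIdeal),
      v x = LocalizedModule.mk (z₁ t) ⟨f t ^ K, pow_not_mem hx K⟩ := fun t x hx =>
    (hval t x hx).trans (GrModLib6.mk_congr (by
      change f t ^ K • z t = f t ^ k t • z₁ t
      rw [← mul_smul, ← pow_add, Nat.add_sub_cancel' (hkK t)]))
  have hov : ∀ i j, ∃ N : ℕ, (f i * f j) ^ N • (f j ^ K • z₁ i) = (f i * f j) ^ N • (f i ^ K • z₁ j) := by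
    intro i j
    have h1 : f j ^ K • z₁ i ∈ ℳ (n + K * d i + K * d j) := by
      rw [Nat.add_comm (n + K * d i)]
      exact SetLike.GradedSMul.smul_mem (SetLike.pow_mem_graded K (hf j)) (hz₁ i)
    have h2 : f i ^ K • z₁ j ∈ ℳ (n + K * d i + K * d j) := by
      rw [show n + K * d i + K * d j = K * d i + (n + K * d j) by omega]
      exact SetLike.GradedSMul.smul_mem (SetLike.pow_mem_graded K (hf i)) (hz₁ j)
    refine GrModLib6.exists_pow_smul_eq (𝒜 := 𝒜) (ℳ := ℳ) (Nat.add_pos_left (hd i) (d j))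
      (SetLike.mul_mem_graded (hf i) (hf j)) h1 h2
      (fun x hx => pow_not_mem (fun h => hx (Ideal.mul_mem_right _ _ h)) K)
      (fun x hx => pow_not_mem (fun h => hx (Ideal.mul_mem_left _ _ h)) K) fun x hx => ?_
    exact (hval₁ i x fun h => hx (Ideal.mul_mem_right _ _ h)).symm.trans
      (hval₁ j x fun h => hx (Ideal.mul_mem_left _ _ h))
  choose Nf hNf using hov
  let N := Finset.univ.sup fun ij : ι × ι => Nf ij.1 ij.2
  let z₂ : ι → M := fun t => f t ^ N • z₁ t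
  have hz₂ : ∀ t, z₂ t ∈ ℳ (n + (N + K) * d t) := fun t => by
    have h1 : z₂ t ∈ ℳ (N * d t + (n + K * d t)) :=
      SetLike.GradedSMul.smul_mem (SetLike.pow_mem_graded N (hf t)) (hz₁ t)
    rwa [show N * d t + (n + K * d t) = n + (N + K) * d t by rw [Nat.add_mul]; omega] at h1
  have hc : ∀ i j, f j ^ (N + K) • z₂ i = f i ^ (N + K) • z₂ j := by
    intro i j
    have hle : Nf i j ≤ N := Finset.le_sup (f := fun ij : ι × ι => Nf ij.1 ij.2) (Finset.mem_univ (i, j))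
    have h := congrArg (fun y => (f i * f j) ^ (N - Nf i j) • y) (hNf i j)
    simp only [← mul_smul, ← mul_assoc, ← pow_add, Nat.sub_add_cancel hle] at h
    simp only [z₂, ← mul_smul]
    refine Eq.trans (congrArg (· • z₁ i) ?_) (h.trans (congrArg (· • z₁ j) ?_)) <;>
      simp only [mul_pow, pow_add] <;> ring
  obtain ⟨m, hm, hl⟩ := h.surj (N + K) z₂ hz₂ hc
  refine ⟨m, hm, fun x => ?_⟩
  obtain ⟨t, ht⟩ := hcov x
  obtain ⟨l, h⟩ := hl t
  refine (hval₁ t x ht).trans (LocalizedModule.mk_eq.mpr ⟨⟨f t ^ (l + N), pow_not_mem ht _⟩, ?_⟩)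
  rw [smul_sub, sub_eq_zero] at h
  change f t ^ (l + N) • ((1 : A) • z₁ t) = f t ^ (l + N) • (f t ^ K • m)
  rw [one_smul, pow_add, mul_smul, mul_smul, ← mul_smul (f t ^ N) (f t ^ K), ← pow_add]
  exact h.symm

end Sol

variable [IsNoetherianRing A]

theorem exists_sol (hTF : ∃ k : ℕ, (Submodule.span A (⋃ i ∈ Set.Ici k, (ℳ i : Set M))).FG)
    {T : Finset (A × ℕ)} (hT : ∀ t ∈ T, 0 < t.2 ∧ t.1 ∈ 𝒜 t.2)
    (hspan : (HomogeneousIdeal.irrelevant 𝒜).toIdeal = Ideal.span (Set.range fun t : T => t.1.1)) :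
    ∃ D : ℕ, ∀ n, D ≤ n → Sol ℳ (fun t : T => t.1.1) (fun t : T => t.1.2) n := by
  classical
  obtain ⟨k₀, hk₀⟩ := hTF
  let Q := Submodule.span A (⋃ i ∈ Set.Ici k₀, (ℳ i : Set M))
  have : IsNoetherian A Q := isNoetherian_of_fg_of_noetherian _ hk₀
  have hQ : Hom ℳ Q := hom_span 𝒜 fun x hx => by
    simp only [Set.mem_iUnion] at hx
    obtain ⟨i, -, hi⟩ := hx
    exact ⟨i, hi⟩
  have memQ : ∀ {p : ℕ} {y : M}, k₀ ≤ p → y ∈ ℳ p → y ∈ Q := fun {p y} hp hy =>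
    Submodule.subset_span (Set.mem_iUnion₂.mpr ⟨p, hp, hy⟩)
  let f : T → A := fun t => t.1.1
  let d : T → ℕ := fun t => t.1.2
  have hf : ∀ t, f t ∈ 𝒜 (d t) := fun t => (hT t.1 t.2).2
  have hB := exists_degree_bound hT hspan
  obtain ⟨D₁, hD₁⟩ := exists_sat_bound f d hf hB hQ (hom_bot (ℳ := ℳ))
  obtain ⟨D₂, hD₂⟩ := good f d hf hB hQ (hom_bot (ℳ := ℳ)) (bot_le : (⊥ : Submodule A M) ≤ Q)
  refine ⟨k₀ + D₁ + D₂, fun n hn => ⟨fun m hm h0 => ?_, fun k z hz hc => ?_⟩⟩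
  · refine (Submodule.mem_bot A).mp (hD₁ n (by omega) m ⟨memQ (by omega) hm, fun t => ?_⟩ hm)
    obtain ⟨N, hN⟩ := h0 t
    exact ⟨N, by rw [hN]; exact zero_mem _⟩
  · obtain ⟨m, -, hm, l, hl⟩ := hD₂ n (by omega) k z (fun i => ⟨memQ (by omega) (hz i), hz i⟩)
      fun i j => by rw [Submodule.mem_bot, sub_eq_zero]; exact hc i j
    exact ⟨m, hm, fun i => ⟨l, (Submodule.mem_bot A).mp (hl i)⟩⟩

omit [IsNoetherianRing A] in
theorem cover_of_span {T : Finset (A × ℕ)}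
    (hspan : (HomogeneousIdeal.irrelevant 𝒜).toIdeal = Ideal.span (Set.range fun t : T => t.1.1))
    (x : ProjectiveSpectrum 𝒜) : ∃ t : T, t.1.1 ∉ x.asHomogeneousIdeal := by
  by_contra hne
  push Not at hne
  refine x.not_irrelevant_le ?_
  change (HomogeneousIdeal.irrelevant 𝒜).toIdeal ≤ x.asHomogeneousIdeal.toIdeal
  rw [hspan, Ideal.span_le]
  rintro _ ⟨t, rfl⟩
  exact hne t

theorem exists_bound (hTF : ∃ k : ℕ, (Submodule.span A (⋃ i ∈ Set.Ici k, (ℳ i : Set M))).FG) :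
    ∃ D : ℕ, ∀ n, D ≤ n →
      (∀ m ∈ ℳ n, (∀ x : ProjectiveSpectrum 𝒜,
        (LocalizedModule.mk m 1 : LocalizedModule x.asHomogeneousIdeal.toIdeal.primeCompl M) = 0) → m = 0) ∧
      ∀ v : Val 𝒜 M, ChartFrac ℳ n v → ∃ m ∈ ℳ n, ∀ x, v x = LocalizedModule.mk m 1 := by
  obtain ⟨T, hT, hspan⟩ := exists_generators 𝒜
  obtain ⟨D, hD⟩ := exists_sol hTF hT hspan
  exact ⟨D, fun n hn =>
    ⟨fun m hm h0 => (hD n hn).eq_zero (fun t : T => (hT t.1 t.2).2) (fun t : T => (hT t.1 t.2).1) hm h0,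
      fun v hv => (hD n hn).exists_mk (fun t : T => (hT t.1 t.2).2) (fun t : T => (hT t.1 t.2).1)
        (cover_of_span hspan) v hv⟩⟩

end GrAlphaLib
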