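import Groth.Agent.GrAlphaLib.McCoy
import Groth.Agent.GrAlphaLib.Bound
import Groth.Agent.GrTildeLib.Chart
import Groth.Agent.IdealTransLib.Lift

/-! # Global sections of the twists and the ideal transform -/

set_option autoImplicit false
set_option linter.unusedSectionVars false

universe u

open CategoryTheory AlgebraicGeometry DirectSum Opposite

noncomputable section

namespace GrAlphaLib

open IdealTransLib (mk res)

variable {A σ : Type u} [CommRing A] [SetLike σ A] [AddSubgroupClass σ A] {𝒜 : ℕ → σ} [GradedRing 𝒜]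
  {M τ : Type u} [AddCommGroup M] [Module A M] [SetLike τ M] [AddSubgroupClass τ M] {ℳ : ℕ → τ}
  [SetLike.GradedSMul 𝒜 ℳ] [DirectSum.Decomposition ℳ]

variable (𝒜) in
/-- The irrelevant ideal. -/
abbrev Plus : Ideal A := (HomogeneousIdeal.irrelevant 𝒜).toIdeal

theorem exists_mem_pow_notMem (x : ProjectiveSpectrum 𝒜) (n : ℕ) :
    ∃ a : A, a ∈ (Plus 𝒜) ^ n ∧ a ∉ x.asHomogeneousIdeal.toIdeal := by
  obtain ⟨f, hf, hfx⟩ := Set.not_subset.1 x.not_irrelevant_le
  exact ⟨f ^ n, Ideal.pow_mem_pow hf n, fun h => hfx (x.isPrime.mem_of_pow_mem n h)⟩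

/-- The values of a map on a power of the irrelevant ideal. -/
def evFun (n : ℕ) : (↥((Plus 𝒜) ^ n) →ₗ[A] M) →ₗ[A] Val 𝒜 M where
  toFun φ x := LocalizedModule.mk (φ ⟨_, (exists_mem_pow_notMem x n).choose_spec.1⟩)
    ⟨_, (exists_mem_pow_notMem x n).choose_spec.2⟩
  map_add' φ ψ := funext fun x => by
    simp only [LinearMap.add_apply, Pi.add_apply, LocalizedModule.mk_add_mk]
    refine GrModLib6.mk_congr ?_
    simp only [Submonoid.smul_def, smul_add, mul_smul, Submonoid.coe_mul]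
  map_smul' r φ := funext fun x => by
    simp only [LinearMap.smul_apply, Pi.smul_apply, RingHom.id_apply, LocalizedModule.smul'_mk]

theorem evFun_eq {n : ℕ} (φ : ↥((Plus 𝒜) ^ n) →ₗ[A] M) (x : ProjectiveSpectrum 𝒜) {a : A} (ha : a ∈ (Plus 𝒜) ^ n)
    (hax : a ∉ x.asHomogeneousIdeal.toIdeal) : evFun n φ x = LocalizedModule.mk (φ ⟨a, ha⟩) ⟨a, hax⟩ := by
  refine GrModLib6.mk_congr ?_
  change a • φ _ = (exists_mem_pow_notMem x n).choose • φ _
  rw [← map_smul, ← map_smul]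
  exact congrArg φ (Subtype.ext (mul_comm _ _))

theorem evFun_res {n k : ℕ} (h : n ≤ k) (φ : ↥((Plus 𝒜) ^ n) →ₗ[A] M) : evFun k (res φ h) = evFun n φ := funext fun x => by
  obtain ⟨a, ha, hax⟩ := exists_mem_pow_notMem x k
  rw [evFun_eq _ x ha hax, evFun_eq φ x (Ideal.pow_le_pow_right h ha) hax]
  rfl

theorem evFun_eq_of_mk_eq {n m : ℕ} {f : ↥((Plus 𝒜) ^ n) →ₗ[A] M} {g : ↥((Plus 𝒜) ^ m) →ₗ[A] M} (h : mk n f = mk m g) :
    evFun n f = evFun m g := by
  obtain ⟨k, hn, hm, he⟩ := IdealTransLib.mk_eq_iff.1 h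
  rw [← evFun_res hn f, he, evFun_res]

/-- The values of an element of the ideal transform. -/
def Phi : LocCoh.DT (Plus 𝒜) M →ₗ[A] Val 𝒜 M where
  toFun z := evFun _ (IdealTransLib.exists_mk z).choose_spec.choose
  map_add' z w := by
    obtain ⟨n, f, hn⟩ := IdealTransLib.exists_mk z
    obtain ⟨m, g, hm, hg⟩ := IdealTransLib.exists_mk_ge w n
    have e : mk m (res f hm + g) = z + w := by rw [map_add, IdealTransLib.mk_res, hn, hg]
    rw [evFun_eq_of_mk_eq ((IdealTransLib.exists_mk (z + w)).choose_spec.choose_spec.trans e.symm), map_add,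
      evFun_res, evFun_eq_of_mk_eq ((IdealTransLib.exists_mk z).choose_spec.choose_spec.trans hn.symm),
      evFun_eq_of_mk_eq ((IdealTransLib.exists_mk w).choose_spec.choose_spec.trans hg.symm)]
  map_smul' r z := by
    obtain ⟨n, f, hn⟩ := IdealTransLib.exists_mk z
    have e : mk n (r • f) = r • z := by rw [map_smul, hn]
    rw [RingHom.id_apply, evFun_eq_of_mk_eq ((IdealTransLib.exists_mk (r • z)).choose_spec.choose_spec.trans e.symm),
      map_smul, evFun_eq_of_mk_eq ((IdealTransLib.exists_mk z).choose_spec.choose_spec.trans hn.symm)]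

theorem Phi_mk {n : ℕ} (f : ↥((Plus 𝒜) ^ n) →ₗ[A] M) : Phi (mk n f) = evFun n f :=
  evFun_eq_of_mk_eq (IdealTransLib.exists_mk (mk n f)).choose_spec.choose_spec

theorem Phi_toDT (m : M) : Phi (LocCoh.toDT (Plus 𝒜) M m) = fun x : ProjectiveSpectrum 𝒜 =>
    (LocalizedModule.mk m 1 : LocalizedModule x.asHomogeneousIdeal.toIdeal.primeCompl M) := by
  funext x
  rw [IdealTransLib.toDT_eq 1, Phi_mk]
  obtain ⟨a, ha, hax⟩ := exists_mem_pow_notMem x 1
  rw [evFun_eq _ x ha hax]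
  refine GrModLib6.mk_congr ?_
  change (1 : A) • a • m = a • m
  rw [one_smul]

theorem smul_eq_zero_of_mk (x : ProjectiveSpectrum 𝒜) {a : A} (ha : a ∉ x.asHomogeneousIdeal.toIdeal)
    {v : LocalizedModule x.asHomogeneousIdeal.toIdeal.primeCompl M} (h : a • v = 0) : v = 0 := by
  have hb := Module.End.isUnit_iff _ |>.1 (IsLocalizedModule.map_units
    (LocalizedModule.mkLinearMap x.asHomogeneousIdeal.toIdeal.primeCompl M)
    (⟨a, ha⟩ : x.asHomogeneousIdeal.toIdeal.primeCompl))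
  exact hb.1 (show a • v = a • (0 : LocalizedModule _ M) by rw [h, smul_zero])

variable [IsNoetherianRing A]

include ℳ in
theorem mem_torsionSub {m : M} (h : ∀ x : ProjectiveSpectrum 𝒜,
    (LocalizedModule.mk m 1 : LocalizedModule x.asHomogeneousIdeal.toIdeal.primeCompl M) = 0) :
    m ∈ DRing.torsionSub (Plus 𝒜) M := by
  classical
  let s := (DirectSum.decompose ℳ m).support
  have hsum : ∑ d ∈ s, comp ℳ d m = m := DirectSum.sum_support_decompose ℳ m
  have h0 : ∀ d ∈ s, ∀ x : ProjectiveSpectrum 𝒜,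
      (LocalizedModule.mk (comp ℳ d m) 1 : LocalizedModule x.asHomogeneousIdeal.toIdeal.primeCompl M) = 0 := by
    intro d hd x
    refine mk_eq_zero_of_sum_eq_zero 𝒜 ℳ s id (fun d => comp ℳ d m) (Set.injOn_id _) (fun d _ => comp_mem d m)
      x.asHomogeneousIdeal.toIdeal ?_ hd
    refine (map_sum (LocalizedModule.mkLinearMap x.asHomogeneousIdeal.toIdeal.primeCompl M) (fun d => comp ℳ d m) s).symm.trans ?_
    rw [hsum]
    exact h x
  obtain ⟨T, hT, hspan⟩ := exists_generators (𝒜 := 𝒜)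
  have hpow : ∀ t : T, ∀ d ∈ s, ∃ N : ℕ, t.1.1 ^ N • comp ℳ d m = 0 := fun t d hd =>
    GrModLib6.exists_pow_smul_eq_zero 𝒜 ℳ (hT t.1 t.2).1 (hT t.1 t.2).2 (comp_mem d m)
      fun x _ => ⟨1, h0 d hd x⟩
  have hrad : (Plus 𝒜) ≤ Ideal.radical (LinearMap.ker (LinearMap.toSpanSingleton A M m)) := by
    rw [Plus, hspan, Ideal.span_le]
    rintro _ ⟨t, rfl⟩
    choose N hN using hpow t
    refine ⟨s.attach.sup fun d => N d.1 d.2, ?_⟩
    show (t.1.1 ^ (s.attach.sup fun d => N d.1 d.2)) • m = 0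
    rw [← hsum, Finset.smul_sum]
    refine Finset.sum_eq_zero fun d hd => ?_
    obtain ⟨j, hj⟩ := Nat.exists_eq_add_of_le (show N d hd ≤ s.attach.sup fun d => N d.1 d.2 from
      Finset.le_sup (f := fun d : {x // x ∈ s} => N d.1 d.2) (Finset.mem_attach s ⟨d, hd⟩))
    rw [hj, pow_add, mul_comm, mul_smul, hN d hd, smul_zero]
  obtain ⟨k, hk⟩ := Ideal.exists_pow_le_of_le_radical_of_fg hrad (IsNoetherian.noetherian _)
  exact ⟨k, fun a ha => hk ha⟩

include ℳ in
theorem Phi_injective : Function.Injective (Phi : LocCoh.DT (Plus 𝒜) M →ₗ[A] Val 𝒜 M) := by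
  refine (injective_iff_map_eq_zero _).2 fun z hz => ?_
  obtain ⟨n, f, rfl⟩ := IdealTransLib.exists_mk z
  rw [Phi_mk] at hz
  obtain ⟨k, hk, he⟩ := IdealTransLib.exists_fun_eq_zero f fun y => mem_torsionSub (ℳ := ℳ) fun x => by
    obtain ⟨a, ha, hax⟩ := exists_mem_pow_notMem x n
    refine smul_eq_zero_of_mk x hax ?_
    have h1 := congrFun hz x
    rw [evFun_eq f x ha hax] at h1
    calc a • LocalizedModule.mk (f y) 1 = LocalizedModule.mk (f (a • y)) 1 := by
          rw [LocalizedModule.smul'_mk, map_smul]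
      _ = LocalizedModule.mk ((y : A) • f ⟨a, ha⟩) 1 := by
          rw [← map_smul]; congr 2; exact Subtype.ext (mul_comm _ _)
      _ = 0 := by
          rw [← LocalizedModule.zero_mk 1, LocalizedModule.mk_eq]
          simp only [Pi.zero_apply, ← LocalizedModule.zero_mk (⟨a, hax⟩ : x.asHomogeneousIdeal.toIdeal.primeCompl),
            LocalizedModule.mk_eq] at h1
          obtain ⟨u, hu⟩ := h1
          simp only [smul_zero, Submonoid.smul_def] at hu
          refine ⟨⟨(u : A) * a, mul_mem u.2 hax⟩, ?_⟩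
          simp only [smul_zero, one_smul, Submonoid.smul_def]
          rw [smul_smul, mul_comm _ (y : A), mul_smul, mul_smul, hu, smul_zero]
  exact IdealTransLib.mk_eq_zero_iff.2 ⟨k, hk, he⟩

include ℳ in
/-- Families which a power of the irrelevant ideal sends into the image come from the ideal transform. -/
theorem mem_range_of_smul {v : Val 𝒜 M} {L : ℕ} (h : ∀ a ∈ (Plus 𝒜) ^ L, a • v ∈ LinearMap.range (Phi : _ →ₗ[A] Val 𝒜 M)) :
    v ∈ LinearMap.range (Phi : LocCoh.DT (Plus 𝒜) M →ₗ[A] Val 𝒜 M) := by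
  let e := LinearEquiv.ofInjective _ (Phi_injective (ℳ := ℳ) (𝒜 := 𝒜))
  let γ : ↥((Plus 𝒜) ^ L) →ₗ[A] ↥(LinearMap.range (Phi : LocCoh.DT (Plus 𝒜) M →ₗ[A] Val 𝒜 M)) :=
    { toFun := fun a => ⟨(a : A) • v, h a a.2⟩
      map_add' := fun a b => Subtype.ext (add_smul (a : A) b v)
      map_smul' := fun r a => Subtype.ext (mul_smul r (a : A) v) }
  let l : ↥((Plus 𝒜) ^ L) →ₗ[A] LocCoh.DT (Plus 𝒜) M := e.symm.toLinearMap ∘ₗ γ
  obtain ⟨ξ, hξ⟩ := (IdealTransLib.bijective_toDT_DT (I := (Plus 𝒜)) (M := M)).2 (mk L l)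
  rw [IdealTransLib.toDT_eq 0, IdealTransLib.mk_eq_iff] at hξ
  obtain ⟨k, h0, hL, he⟩ := hξ
  refine ⟨ξ, funext fun x => ?_⟩
  obtain ⟨a, ha, hax⟩ := exists_mem_pow_notMem x k
  have h1 := LinearMap.congr_fun he ⟨a, ha⟩
  have h2 : Phi (a • ξ) = a • v := by
    have h3 : a • ξ = e.symm (γ ⟨a, Ideal.pow_le_pow_right hL ha⟩) := h1
    rw [h3]
    exact congrArg Subtype.val (e.apply_symm_apply (γ ⟨a, Ideal.pow_le_pow_right hL ha⟩))
  have h4 := congrFun h2 x
  rw [map_smul, Pi.smul_apply, Pi.smul_apply] at h4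
  exact sub_eq_zero.1 (smul_eq_zero_of_mk x hax (by rw [smul_sub, h4, sub_self]))

/-- The values of a section. -/
def secVal {n : ℤ} : Γ(GrMod.tilde 𝒜 ℳ n, (⊤ : (Proj 𝒜).Opens)) →+ Val 𝒜 M where
  toFun t x := GrModLib6.val t ⟨x, trivial⟩
  map_zero' := rfl
  map_add' _ _ := rfl

theorem secVal_mem_range {n : ℤ} (t : Γ(GrMod.tilde 𝒜 ℳ n, (⊤ : (Proj 𝒜).Opens))) :
    secVal t ∈ LinearMap.range (Phi : LocCoh.DT (Plus 𝒜) M →ₗ[A] Val 𝒜 M) := by
  classical
  obtain ⟨T, hT, hspan⟩ := exists_generators (𝒜 := 𝒜)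
  have hfr : ∀ s : T, ∃ (k i : ℕ) (m : M), m ∈ ℳ i ∧ (i : ℤ) = k * s.1.2 + n ∧
      ∀ (x : ProjectiveSpectrum 𝒜) (hx : s.1.1 ∉ x.asHomogeneousIdeal),
        secVal t x = LocalizedModule.mk m ⟨s.1.1 ^ k, pow_not_mem hx k⟩ := fun s => by
    obtain ⟨k, i, m, hm, hi, hv⟩ := GrModLib6.exists_eq_frac (hT s.1 s.2).1 (hT s.1 s.2).2
      ((GrMod.tilde 𝒜 ℳ n).presheaf.map (homOfLE (le_top : Proj.basicOpen 𝒜 s.1.1 ≤ ⊤)).op t)
    exact ⟨k, i, m, hm, hi, fun x hx => hv ⟨x, hx⟩⟩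
  choose k i m hm hi hval using hfr
  let f : T → A := fun s => s.1.1
  have hN : ∀ s r : T, ∃ N : ℕ, (f s * f r) ^ N • (f r ^ k r • m s) = (f s * f r) ^ N • (f s ^ k s • m r) := by
    intro s r
    have hh : k r * r.1.2 + i s = k s * s.1.2 + i r := by
      have := hi s; have := hi r; omega
    refine GrModLib6.exists_pow_smul_eq (𝒜 := 𝒜) (ℳ := ℳ) (Nat.add_pos_left (hT s.1 s.2).1 r.1.2)
      (SetLike.mul_mem_graded (hT s.1 s.2).2 (hT r.1 r.2).2)
      (p := k r * r.1.2 + i s)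
      (SetLike.GradedSMul.smul_mem (SetLike.pow_mem_graded (k r) (hT r.1 r.2).2) (hm s))
      (by rw [hh]; exact SetLike.GradedSMul.smul_mem (SetLike.pow_mem_graded (k s) (hT s.1 s.2).2) (hm r))
      (fun x hx => pow_not_mem (fun h => hx (Ideal.mul_mem_right _ _ h)) _)
      (fun x hx => pow_not_mem (fun h => hx (Ideal.mul_mem_left _ _ h)) _) fun x hx => ?_
    exact (hval s x fun h => hx (Ideal.mul_mem_right _ _ h)).symm.trans
      (hval r x fun h => hx (Ideal.mul_mem_left _ _ h))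
  choose N hN using hN
  have key : ∀ s : T, (f s ^ (k s + Finset.univ.sup (N s))) • secVal t ∈
      LinearMap.range (Phi : LocCoh.DT (Plus 𝒜) M →ₗ[A] Val 𝒜 M) := by
    intro s
    refine ⟨LocCoh.toDT (Plus 𝒜) M (f s ^ (Finset.univ.sup (N s)) • m s), ?_⟩
    rw [Phi_toDT]
    funext x
    obtain ⟨r, hr⟩ := cover_of_span hspan x
    obtain ⟨j, hj⟩ := Nat.exists_eq_add_of_le (Finset.le_sup (f := N s) (Finset.mem_univ r))
    rw [Pi.smul_apply, hval r x hr, LocalizedModule.smul'_mk, LocalizedModule.mk_eq]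
    refine ⟨⟨f r ^ N s r, pow_not_mem hr _⟩, ?_⟩
    simp only [Submonoid.smul_def, OneMemClass.coe_one, one_smul, smul_smul]
    have h := congrArg (f s ^ j • ·) (hN s r)
    simp only [smul_smul] at h
    rw [hj]
    refine Eq.trans (congrArg (· • m s) ?_) (h.trans (congrArg (· • m r) ?_)) <;>
      simp only [f, mul_pow, pow_add] <;> ring
  set W := LinearMap.range (Phi : LocCoh.DT (Plus 𝒜) M →ₗ[A] Val 𝒜 M)
  let Q : Ideal A := W.comap (LinearMap.toSpanSingleton A (Val 𝒜 M) (secVal t))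
  have hrad : (Plus 𝒜) ≤ Q.radical := by
    rw [Plus, hspan, Ideal.span_le]
    rintro _ ⟨s, rfl⟩
    exact ⟨_, key s⟩
  obtain ⟨L, hL⟩ := Ideal.exists_pow_le_of_le_radical_of_fg hrad (IsNoetherian.noetherian _)
  exact mem_range_of_smul (ℳ := ℳ) fun a ha => hL ha

theorem sec_indep (S : Finset ℤ) (t : ∀ n : ℤ, Γ(GrMod.tilde 𝒜 ℳ n, (⊤ : (Proj 𝒜).Opens)))
    (h : ∑ n ∈ S, secVal (t n) = 0) {n : ℤ} (hn : n ∈ S) : t n = 0 := by
  classical
  refine GrModLib6.sec_ext fun x => ?_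
  have hrep : ∀ l : ℤ, ∃ (i j : ℕ) (m : M) (s : A), m ∈ ℳ i ∧ s ∈ 𝒜 j ∧ ∃ hs : s ∉ x.1.asHomogeneousIdeal,
      ((i : ℤ) = j + l ∨ m = 0) ∧ secVal (t l) x.1 = LocalizedModule.mk m ⟨s, hs⟩ := fun l => by
    obtain ⟨W, hxW, hW, i, j, m, s, hm, hs, hnin, hd, hv⟩ := GrModLib6.val_exists (t l) x
    exact ⟨i, j, m, s, hm, hs, hnin ⟨x.1, hxW⟩, hd, hv ⟨x.1, hxW⟩⟩
  choose i j m s hm hs hsx hd hv using hrep
  set P := x.1.asHomogeneousIdeal.toIdeal with hP
  let U := ∏ l ∈ S, s l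
  let S' := S.filter fun l => m l ≠ 0
  let o : ℤ → A := fun l => ∏ l' ∈ S.erase l, s l'
  have hU : U ∉ P := fun hc => by
    obtain ⟨l, -, hl⟩ := x.1.isPrime.prod_mem_iff.1 hc
    exact hsx l hl
  have ho : ∀ l, o l ∈ 𝒜 (∑ l' ∈ S.erase l, j l') := fun l => SetLike.prod_mem_graded _ _ _ fun l' _ => hs l'
  have hU' : ∀ l ∈ S, U • secVal (t l) x.1 = LocalizedModule.mk (o l • m l) 1 := fun l hl => by
    rw [hv l, LocalizedModule.smul'_mk]
    refine GrModLib6.mk_congr ?_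
    change (1 : A) • U • m l = s l • o l • m l
    rw [one_smul, smul_smul]
    congr 1
    exact (Finset.mul_prod_erase S s hl).symm
  have hsum : ∑ l ∈ S', (LocalizedModule.mk (o l • m l) 1 : LocalizedModule P.primeCompl M) = 0 := by
    refine (Finset.sum_filter_of_ne (s := S) (p := fun l => m l ≠ 0)
      (f := fun l => (LocalizedModule.mk (o l • m l) 1 : LocalizedModule P.primeCompl M))
      fun l _ h0 hc => h0 (by rw [hc, smul_zero, LocalizedModule.zero_mk])).trans ?_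
    rw [← Finset.sum_congr rfl hU', ← Finset.smul_sum]
    have := congrFun h x.1
    rw [Finset.sum_apply] at this
    rw [this]
    exact smul_zero U
  have hj : ∀ l ∈ S, (∑ l' ∈ S.erase l, j l') + j l = ∑ l' ∈ S, j l' := fun l hl => Finset.sum_erase_add S j hl
  have hz : (LocalizedModule.mk (o n • m n) 1 : LocalizedModule P.primeCompl M) = 0 := by
    by_cases hm0 : m n = 0
    · rw [hm0, smul_zero, LocalizedModule.zero_mk]
    refine mk_eq_zero_of_sum_eq_zero 𝒜 ℳ S' (fun l => (∑ l' ∈ S.erase l, j l') + i l) (fun l => o l • m l) ?_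
      (fun l _ => SetLike.GradedSMul.smul_mem (ho l) (hm l)) P hsum (Finset.mem_filter.2 ⟨hn, hm0⟩)
    intro a ha b hb hab
    obtain ⟨ha1, ha2⟩ := Finset.mem_filter.1 ha
    obtain ⟨hb1, hb2⟩ := Finset.mem_filter.1 hb
    have h1 := (hd a).resolve_right ha2
    have h2 := (hd b).resolve_right hb2
    have h3 := hj a ha1
    have h4 := hj b hb1
    have h5 : (∑ l' ∈ S.erase a, j l') + i a = (∑ l' ∈ S.erase b, j l') + i b := hab
    omega
  have h6 : U • secVal (t n) x.1 = 0 := (hU' n hn).trans hz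
  exact smul_eq_zero_of_mk x.1 hU h6

theorem Phi_mk_component {n : ℕ} (f : ↥((Plus 𝒜) ^ n) →ₗ[A] M) :
    ∃ (S : Finset ℤ) (t : ∀ l : ℤ, Γ(GrMod.tilde 𝒜 ℳ l, (⊤ : (Proj 𝒜).Opens))),
      evFun n f = ∑ l ∈ S, secVal (t l) := by
  classical
  obtain ⟨T, hT, hspan⟩ := exists_generators (𝒜 := 𝒜)
  have hmem : ∀ s : T, s.1.1 ^ n ∈ (Plus 𝒜) ^ n := fun s => Ideal.pow_mem_pow
    (show s.1.1 ∈ (HomogeneousIdeal.irrelevant 𝒜).toIdeal from hspan ▸ Ideal.subset_span ⟨s, rfl⟩) n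
  let z : T → M := fun s => f ⟨s.1.1 ^ n, hmem s⟩
  let cc : M → ℤ → M := fun y p => if 0 ≤ p then comp ℳ p.toNat y else 0
  have hcc : ∀ (y : M) (p : ℤ), cc y p ∈ ℳ p.toNat := fun y p => by
    dsimp only [cc]; split_ifs
    · exact comp_mem _ _
    · exact zero_mem _
  have hagree : ∀ (l : ℤ) (s r : T),
      r.1.1 ^ n • cc (z s) (l + n * s.1.2) = s.1.1 ^ n • cc (z r) (l + n * r.1.2) := by
    intro l s r
    have e : r.1.1 ^ n • z s = s.1.1 ^ n • z r := by
      rw [← map_smul, ← map_smul]; exact congrArg f (Subtype.ext (mul_comm _ _))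
    have hs := SetLike.pow_mem_graded n (hT s.1 s.2).2
    have hr := SetLike.pow_mem_graded n (hT r.1 r.2).2
    simp only [smul_eq_mul] at hs hr
    -- compare the components
    have hlt : ∀ (a : A) (d : ℕ), a ∈ 𝒜 d → ∀ (y : M) (q : ℕ), q < d → comp ℳ q (a • y) = 0 := by
      intro a d ha y q hq
      rw [show a • y = ∑ p ∈ (DirectSum.decompose ℳ y).support, a • comp ℳ p y by
        rw [← Finset.smul_sum]; exact congrArg (a • ·) (DirectSum.sum_support_decompose ℳ y).symm, comp_sum]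
      exact Finset.sum_eq_zero fun p _ =>
        comp_of_mem_ne (SetLike.GradedSMul.smul_mem ha (comp_mem p y)) (show d + p ≠ q by omega)
    by_cases h1 : 0 ≤ l + n * s.1.2 <;> by_cases h2 : 0 ≤ l + n * r.1.2
    · simp only [cc, if_pos h1, if_pos h2]
      have h3 := congrArg (comp ℳ (n * r.1.2 + (l + n * s.1.2).toNat)) e
      rw [comp_smul_homog (𝒜 := 𝒜) hr, show n * r.1.2 + (l + n * s.1.2).toNat = n * s.1.2 + (l + n * r.1.2).toNat by omega,
        comp_smul_homog (𝒜 := 𝒜) hs] at h3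
      exact h3
    · simp only [cc, if_pos h1, if_neg h2, smul_zero]
      have h3 := congrArg (comp ℳ (n * r.1.2 + (l + n * s.1.2).toNat)) e
      rw [comp_smul_homog (𝒜 := 𝒜) hr, hlt _ _ hs _ _ (by omega)] at h3
      exact h3
    · simp only [cc, if_neg h1, if_pos h2, smul_zero]
      have h3 := congrArg (comp ℳ (n * s.1.2 + (l + n * r.1.2).toNat)) e
      rw [comp_smul_homog (𝒜 := 𝒜) hs, hlt _ _ hr _ _ (by omega)] at h3
      exact h3
    · simp only [cc, if_neg h1, if_neg h2, smul_zero]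
  choose r hr using cover_of_span hspan
  let t : ∀ l : ℤ, GrMod.sect 𝒜 ℳ l (op ⊤) := fun l =>
    ⟨fun x => ⟨LocalizedModule.mk (cc (z (r x.1)) (l + n * (r x.1).1.2)) ⟨(r x.1).1.1 ^ n, pow_not_mem (hr x.1) n⟩, by
      by_cases h1 : 0 ≤ l + n * (r x.1).1.2
      · exact Submodule.subset_span ⟨_, n * (r x.1).1.2, ⟨_, hcc _ _⟩,
          ⟨_, by simpa using SetLike.pow_mem_graded n (hT (r x.1).1 (r x.1).2).2⟩, pow_not_mem (hr x.1) n,
          by rw [Int.toNat_of_nonneg h1]; push_cast; ring, rfl⟩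
      · simp only [cc, if_neg h1, LocalizedModule.zero_mk]
        exact zero_mem _⟩,
    fun x => ⟨Proj.basicOpen 𝒜 (r x.1).1.1, hr x.1, homOfLE le_top, (l + n * (r x.1).1.2).toNat, n * (r x.1).1.2,
      ⟨_, hcc (z (r x.1)) _⟩, ⟨_, by simpa using SetLike.pow_mem_graded n (hT (r x.1).1 (r x.1).2).2⟩,
      fun y => pow_not_mem y.2 n, by
        by_cases h1 : 0 ≤ l + n * (r x.1).1.2
        · exact Or.inl (by rw [Int.toNat_of_nonneg h1]; push_cast; ring)
        · exact Or.inr (if_neg h1),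
      fun y => GrModLib6.mk_congr (hagree l (r y.1) (r x.1))⟩⟩
  let S : Finset ℤ := Finset.univ.biUnion fun s : T =>
    (DirectSum.decompose ℳ (z s)).support.image fun p : ℕ => (p : ℤ) - n * s.1.2
  refine ⟨S, t, funext fun x => ?_⟩
  rw [Finset.sum_apply, evFun_eq f x (hmem (r x)) (pow_not_mem (hr x) n)]
  show LocalizedModule.mk (z (r x)) _ = ∑ l ∈ S, LocalizedModule.mk (cc (z (r x)) (l + n * (r x).1.2)) _
  let q : M →ₗ[A] LocalizedModule x.asHomogeneousIdeal.toIdeal.primeCompl M :=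
    { toFun := fun y => LocalizedModule.mk y ⟨(r x).1.1 ^ n, pow_not_mem (hr x) n⟩
      map_add' := fun a b => by
        rw [LocalizedModule.mk_add_mk]; exact GrModLib6.mk_congr (by
          simp only [Submonoid.smul_def, smul_add, mul_smul, Submonoid.coe_mul])
      map_smul' := fun a b => (LocalizedModule.smul'_mk a
        b (⟨(r x).1.1 ^ n, pow_not_mem (hr x) n⟩ : x.asHomogeneousIdeal.toIdeal.primeCompl)).symm }
  show q (z (r x)) = ∑ l ∈ S, q (cc (z (r x)) (l + n * (r x).1.2))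
  rw [← map_sum]
  congr 1
  have hsub : ∑ l ∈ S, cc (z (r x)) (l + n * (r x).1.2) =
      ∑ l ∈ (DirectSum.decompose ℳ (z (r x))).support.image fun p : ℕ => (p : ℤ) - n * (r x).1.2,
        cc (z (r x)) (l + n * (r x).1.2) := by
    refine (Finset.sum_subset (fun l hl => Finset.mem_biUnion.2 ⟨r x, Finset.mem_univ _, hl⟩) fun l _ hl => ?_).symm
    by_cases h1 : 0 ≤ l + n * (r x).1.2
    · simp only [cc, if_pos h1, comp]
      rw [DFinsupp.notMem_support_iff.1 fun h => hl (Finset.mem_image.2 ⟨_, h, by omega⟩), ZeroMemClass.coe_zero]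
    · exact if_neg h1
  rw [hsub, Finset.sum_image (fun a _ b _ hab => by
    have h1 : (a : ℤ) - n * (r x).1.2 = (b : ℤ) - n * (r x).1.2 := hab
    omega)]
  simp only [cc, sub_add_cancel, Nat.cast_nonneg, if_true, Int.toNat_natCast]
  exact (DirectSum.sum_support_decompose ℳ (z (r x))).symm

variable (𝒜 ℳ) in
/-- `⊕ₙ Γ(Proj, M(n)~)` is the ideal transform of `M`. -/
theorem nonempty_coker_addEquiv :
    Nonempty ((DirectSum ℤ (fun n : ℤ => ((GrMod.tilde 𝒜 ℳ n).val.obj (op ⊤) : Type u)) ⧸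
        AddSubgroup.closure (⋃ i : ℕ, Set.range (fun m : ℳ i =>
          DirectSum.of (fun n : ℤ => ((GrMod.tilde 𝒜 ℳ n).val.obj (op ⊤) : Type u)) (i : ℤ)
            (GrMod.alpha 𝒜 ℳ i m)))) ≃+
      (LocCoh.DT (Plus 𝒜) M ⧸ LinearMap.range (LocCoh.toDT (Plus 𝒜) M))) := by
  classical
  let G : ℤ → Type u := fun n => ((GrMod.tilde 𝒜 ℳ n).val.obj (op ⊤) : Type u)
  let F : DirectSum ℤ G →+ Val 𝒜 M := DirectSum.toAddMonoid fun _ => secVal
  have hF : ∀ D, F D = ∑ l ∈ D.support, secVal (D l) := fun D => by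
    conv_lhs => rw [← DirectSum.sum_support_of D, map_sum]
    exact Finset.sum_congr rfl fun l _ => DirectSum.toAddMonoid_of _ _ _
  have hinj : Function.Injective F := (injective_iff_map_eq_zero F).2 fun D hD => by
    refine DFinsupp.ext fun l => ?_
    by_cases hl : l ∈ D.support
    · exact sec_indep D.support (fun l => D l) ((hF D).symm.trans hD) hl
    · exact DFinsupp.notMem_support_iff.1 hl
  let Fr : DirectSum ℤ G →+ ↥(LinearMap.range (Phi : LocCoh.DT (Plus 𝒜) M →ₗ[A] Val 𝒜 M)) :=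
    F.codRestrict _ fun D => by rw [hF]; exact Submodule.sum_mem _ fun l _ => secVal_mem_range _
  have hFr : Function.Bijective Fr := by
    refine ⟨fun a b hab => hinj (congrArg Subtype.val hab), fun w => ?_⟩
    obtain ⟨ξ, hξ⟩ := w.2
    obtain ⟨n, f, rfl⟩ := IdealTransLib.exists_mk ξ
    obtain ⟨S, t, ht⟩ := Phi_mk_component (ℳ := ℳ) f
    refine ⟨∑ l ∈ S, DirectSum.of G l (t l), Subtype.ext ?_⟩
    show F _ = _
    rw [map_sum, ← hξ, Phi_mk, ht]
    exact Finset.sum_congr rfl fun l _ => DirectSum.toAddMonoid_of _ _ _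
  let e : DirectSum ℤ G ≃+ LocCoh.DT (Plus 𝒜) M := (AddEquiv.ofBijective Fr hFr).trans
    (LinearEquiv.ofInjective _ (Phi_injective (ℳ := ℳ) (𝒜 := 𝒜))).symm.toAddEquiv
  have he : ∀ D, Phi (e D) = F D := fun D => congrArg Subtype.val
    ((LinearEquiv.ofInjective _ (Phi_injective (ℳ := ℳ) (𝒜 := 𝒜))).apply_symm_apply (Fr D))
  have hgen : ∀ (i : ℕ) (m : ℳ i), e (DirectSum.of G (i : ℤ) (GrMod.alpha 𝒜 ℳ i m)) = LocCoh.toDT (Plus 𝒜) M (m : M) := by
    intro i m
    refine Phi_injective (ℳ := ℳ) (𝒜 := 𝒜) ?_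
    rw [he, Phi_toDT, show F _ = _ from DirectSum.toAddMonoid_of _ _ _]
    rfl
  refine ⟨QuotientAddGroup.congr _ (LinearMap.range (LocCoh.toDT (Plus 𝒜) M)).toAddSubgroup e ?_⟩
  rw [AddMonoidHom.map_closure, Set.image_iUnion]
  refine le_antisymm ((AddSubgroup.closure_le _).2 ?_) ?_
  · simp only [Set.iUnion_subset_iff, Set.image_subset_iff, Set.range_subset_iff]
    intro i m
    exact ⟨(m : M), (hgen i m).symm⟩
  · rintro _ ⟨y, rfl⟩
    rw [show LocCoh.toDT (Plus 𝒜) M y = ∑ p ∈ (DirectSum.decompose ℳ y).support,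
      LocCoh.toDT (Plus 𝒜) M (DirectSum.decompose ℳ y p : M) by rw [← map_sum, DirectSum.sum_support_decompose]]
    exact AddSubgroup.sum_mem _ fun p _ => AddSubgroup.subset_closure
      (Set.mem_iUnion.2 ⟨p, _, ⟨DirectSum.decompose ℳ y p, rfl⟩, hgen p _⟩)

end GrAlphaLib

end
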