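import Groth.Agent.GrModLib6.Basic
import Mathlib.RingTheory.Finiteness.Ideal
import Mathlib.RingTheory.Noetherian.Basic

/-!
# Sections of the twists of a finite graded module in high degree: the algebra

For a finite graded module over a Noetherian graded ring and generators `f i` of the irrelevant ideal up to
radical, compatible families of fractions `z i / f i ^ k` of high degree come from the module.
-/

set_option autoImplicit false
set_option linter.unusedSectionVars false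

universe u

open DirectSum

noncomputable section

namespace GrAlphaLib

variable {A σ : Type u} [CommRing A] [SetLike σ A] [AddSubgroupClass σ A] {𝒜 : ℕ → σ} [GradedRing 𝒜]
  {M τ : Type u} [AddCommGroup M] [Module A M] [SetLike τ M] [AddSubgroupClass τ M] {ℳ : ℕ → τ}
  [SetLike.GradedSMul 𝒜 ℳ] [DirectSum.Decomposition ℳ]

variable (ℳ) in
/-- The component of degree `p`. -/
def comp (p : ℕ) (x : M) : M := (DirectSum.decompose ℳ x p : M)

theorem comp_mem (p : ℕ) (x : M) : comp ℳ p x ∈ ℳ p := SetLike.coe_mem _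

theorem comp_add (p : ℕ) (x y : M) : comp ℳ p (x + y) = comp ℳ p x + comp ℳ p y := by
  simp only [comp, DirectSum.decompose_add, DirectSum.add_apply, AddMemClass.coe_add]

theorem comp_zero (p : ℕ) : comp ℳ p 0 = 0 := by
  simp only [comp, DirectSum.decompose_zero, DirectSum.zero_apply, ZeroMemClass.coe_zero]

theorem comp_neg (p : ℕ) (x : M) : comp ℳ p (-x) = -comp ℳ p x :=
  eq_neg_of_add_eq_zero_left (by rw [← comp_add, neg_add_cancel, comp_zero])

theorem comp_sum {ι : Type*} (s : Finset ι) (p : ℕ) (x : ι → M) :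
    comp ℳ p (∑ i ∈ s, x i) = ∑ i ∈ s, comp ℳ p (x i) := by
  classical
  induction s using Finset.induction_on with
  | empty => simp [comp_zero]
  | insert a s ha ih => rw [Finset.sum_insert ha, Finset.sum_insert ha, comp_add, ih]

theorem comp_of_mem {p : ℕ} {x : M} (h : x ∈ ℳ p) : comp ℳ p x = x := DirectSum.decompose_of_mem_same ℳ h

theorem comp_of_mem_ne {p q : ℕ} {x : M} (h : x ∈ ℳ p) (hne : p ≠ q) : comp ℳ q x = 0 :=
  DirectSum.decompose_of_mem_ne ℳ h hne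

variable (𝒜) in
theorem comp_smul_add {i : ℕ} {m : M} (hm : m ∈ ℳ i) (a : A) (k : ℕ) :
    comp ℳ (k + i) (a • m) = (DirectSum.decompose 𝒜 a k : A) • m :=
  GrModLib6.decompose_smul 𝒜 ℳ hm a k

variable (𝒜) in
include 𝒜 in
theorem comp_smul_lt {i : ℕ} {m : M} (hm : m ∈ ℳ i) (a : A) {p : ℕ} (hp : p < i) :
    comp ℳ p (a • m) = 0 := by
  classical
  induction a using DirectSum.Decomposition.inductionOn (ℳ := 𝒜) with
  | zero => rw [zero_smul, comp_zero]
  | @homogeneous l a =>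
    have ha : (a : A) • m ∈ ℳ (l + i) := SetLike.GradedSMul.smul_mem a.2 hm
    exact comp_of_mem_ne ha (show l + i ≠ p by omega)
  | add a b ha hb => rw [add_smul, comp_add, ha, hb, add_zero]

theorem comp_smul_homog {l : ℕ} {a : A} (ha : a ∈ 𝒜 l) (p : ℕ) (x : M) :
    comp ℳ (l + p) (a • x) = a • comp ℳ p x := by
  classical
  induction x using DirectSum.Decomposition.inductionOn (ℳ := ℳ) with
  | zero => rw [smul_zero, comp_zero, comp_zero, smul_zero]
  | @homogeneous i x =>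
    have h : a • (x : M) ∈ ℳ (l + i) := SetLike.GradedSMul.smul_mem ha x.2
    by_cases e : i = p
    · subst e; rw [comp_of_mem h, comp_of_mem x.2]
    · rw [comp_of_mem_ne h (fun h' => e (by omega)), comp_of_mem_ne x.2 e, smul_zero]
  | add x y hx hy => rw [smul_add, comp_add, comp_add, hx, hy, smul_add]

variable (ℳ) in
/-- A submodule containing the components of its elements. -/
def Hom (N : Submodule A M) : Prop := ∀ x ∈ N, ∀ p, comp ℳ p x ∈ N

theorem hom_bot : Hom ℳ (⊥ : Submodule A M) := fun x hx p => by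
  rw [(Submodule.mem_bot A).mp hx, comp_zero]; exact zero_mem _

variable (𝒜) in
include 𝒜 in
theorem hom_span {s : Set M} (hs : ∀ x ∈ s, ∃ i, x ∈ ℳ i) : Hom ℳ (Submodule.span A s) := by
  intro x hx
  induction hx using Submodule.span_induction with
  | zero => intro p; rw [comp_zero]; exact zero_mem _
  | mem x hx =>
    intro p
    obtain ⟨i, hi⟩ := hs x hx
    by_cases e : i = p
    · subst e; rw [comp_of_mem hi]; exact Submodule.subset_span hx
    · rw [comp_of_mem_ne hi e]; exact zero_mem _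
  | add x y _ _ hx hy => intro p; rw [comp_add]; exact add_mem (hx p) (hy p)
  | smul a x _ hx =>
    intro p
    classical
    have hx' : x = ∑ i ∈ (DirectSum.decompose ℳ x).support, comp ℳ i x :=
      (DirectSum.sum_support_decompose ℳ x).symm
    rw [hx', Finset.smul_sum, comp_sum]
    refine Submodule.sum_mem _ fun i _ => ?_
    by_cases h : i ≤ p
    · obtain ⟨k, rfl⟩ : ∃ k, p = k + i := ⟨p - i, by omega⟩
      rw [comp_smul_add 𝒜 (comp_mem i x)]
      exact Submodule.smul_mem _ _ (hx i)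
    · rw [comp_smul_lt 𝒜 (comp_mem i x) a (by omega)]
      exact zero_mem _

theorem Hom.sup {N N' : Submodule A M} (h : Hom ℳ N) (h' : Hom ℳ N') : Hom ℳ (N ⊔ N') := fun x hx p => by
  obtain ⟨a, ha, b, hb, rfl⟩ := Submodule.mem_sup.mp hx
  rw [comp_add]
  exact Submodule.add_mem_sup (h a ha p) (h' b hb p)

theorem Hom.smul_map {N : Submodule A M} (h : Hom ℳ N) {l : ℕ} {a : A} (ha : a ∈ 𝒜 l) :
    Hom ℳ (N.map (LinearMap.lsmul A M a)) := by
  rintro _ ⟨x, hx, rfl⟩ p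
  simp only [LinearMap.lsmul_apply]
  classical
  by_cases hp : l ≤ p
  · obtain ⟨q, rfl⟩ : ∃ q, p = l + q := ⟨p - l, by omega⟩
    rw [comp_smul_homog ha]
    exact ⟨_, h x hx q, rfl⟩
  · have : comp ℳ p (a • x) = 0 := by
      rw [← DirectSum.sum_support_decompose ℳ x, Finset.smul_sum, comp_sum]
      exact Finset.sum_eq_zero fun i _ =>
        comp_of_mem_ne (SetLike.GradedSMul.smul_mem ha (SetLike.coe_mem _)) (show l + i ≠ p by omega)
    rw [this]; exact zero_mem _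

variable {ι : Type*} [Fintype ι] (f : ι → A) (d : ι → ℕ) (hf : ∀ i, f i ∈ 𝒜 (d i))

/-- The elements of `Q` having a power of each `f i` multiplying them into `N`. -/
def sat (Q N : Submodule A M) : Submodule A M where
  carrier := {x | x ∈ Q ∧ ∀ i, ∃ l, f i ^ l • x ∈ N}
  zero_mem' := ⟨zero_mem _, fun i => ⟨0, by simp⟩⟩
  add_mem' := fun {x y} hx hy => ⟨add_mem hx.1 hy.1, fun i => by
    obtain ⟨l, hl⟩ := hx.2 i
    obtain ⟨l', hl'⟩ := hy.2 i
    refine ⟨l + l', ?_⟩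
    rw [smul_add]
    refine add_mem ?_ ?_
    · rw [add_comm, pow_add, mul_smul]; exact Submodule.smul_mem _ _ hl
    · rw [pow_add, mul_smul]; exact Submodule.smul_mem _ _ hl'⟩
  smul_mem' := fun a x hx => ⟨Submodule.smul_mem _ _ hx.1, fun i => by
    obtain ⟨l, hl⟩ := hx.2 i
    exact ⟨l, by rw [smul_comm]; exact Submodule.smul_mem _ _ hl⟩⟩

/-- The elements of `Q` having a power of `g` multiplying them into `N`. -/
def sat1 (g : A) (Q N : Submodule A M) : Submodule A M where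
  carrier := {x | x ∈ Q ∧ ∃ l, g ^ l • x ∈ N}
  zero_mem' := ⟨zero_mem _, 0, by simp⟩
  add_mem' := fun {x y} ⟨hx, l, hl⟩ ⟨hy, l', hl'⟩ => ⟨add_mem hx hy, l + l', by
    rw [smul_add]
    refine add_mem ?_ ?_
    · rw [add_comm, pow_add, mul_smul]; exact Submodule.smul_mem _ _ hl
    · rw [pow_add, mul_smul]; exact Submodule.smul_mem _ _ hl'⟩
  smul_mem' := fun a x ⟨hx, l, hl⟩ =>
    ⟨Submodule.smul_mem _ _ hx, l, by rw [smul_comm]; exact Submodule.smul_mem _ _ hl⟩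

include hf in
theorem hom_sat {Q N : Submodule A M} (hQ : Hom ℳ Q) (hN : Hom ℳ N) : Hom ℳ (sat f Q N) :=
  fun x hx p => ⟨hQ x hx.1 p, fun i => by
    obtain ⟨l, hl⟩ := hx.2 i
    refine ⟨l, ?_⟩
    rw [← comp_smul_homog (SetLike.pow_mem_graded l (hf i)) p x]
    exact hN _ hl _⟩

theorem hom_sat1 {g : A} {e : ℕ} (hg : g ∈ 𝒜 e) {Q N : Submodule A M} (hQ : Hom ℳ Q) (hN : Hom ℳ N) :
    Hom ℳ (sat1 g Q N) :=
  fun x ⟨hx, l, hl⟩ p => ⟨hQ x hx p, l, by
    rw [← comp_smul_homog (SetLike.pow_mem_graded l hg) p x]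
    exact hN _ hl _⟩

section Bound

variable (hB : ∀ l : ℕ, ∃ B : ℕ, ∀ p, B ≤ p → ∀ a ∈ 𝒜 p, a ∈ Ideal.span (Set.range fun i => f i ^ l))
  {Q : Submodule A M} [IsNoetherian A Q] (hQ : Hom ℳ Q)

include hf hB hQ

theorem exists_sat_bound {N : Submodule A M} (hN : Hom ℳ N) :
    ∃ D : ℕ, ∀ n, D ≤ n → ∀ x ∈ sat f Q N, x ∈ ℳ n → x ∈ N := by
  classical
  have hS : (sat f Q N).FG := by
    have h : ((sat f Q N).comap Q.subtype).FG := IsNoetherian.noetherian _
    have e : ((sat f Q N).comap Q.subtype).map Q.subtype = sat f Q N := by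
      rw [Submodule.map_comap_subtype, inf_eq_right]
      exact fun x hx => hx.1
    rw [← e]; exact h.map _
  obtain ⟨G, hG⟩ := hS
  have hGS : ∀ g ∈ G, g ∈ sat f Q N := fun g hg => hG ▸ Submodule.subset_span hg
  let T : Finset (M × ℕ) := G.biUnion fun g =>
    (DirectSum.decompose ℳ g).support.image fun p => (comp ℳ p g, p)
  have hT : ∀ t ∈ T, t.1 ∈ sat f Q N ∧ t.1 ∈ ℳ t.2 := by
    intro t ht
    simp only [T, Finset.mem_biUnion, Finset.mem_image] at ht
    obtain ⟨g, hg, p, -, rfl⟩ := ht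
    exact ⟨hom_sat f d hf hQ hN g (hGS g hg) p, comp_mem p g⟩
  choose l hl using fun (t : {t // t ∈ T}) (i : ι) => (hT t.1 t.2).1.2 i
  let L := Finset.univ.sup fun ti : {t // t ∈ T} × ι => l ti.1 ti.2
  obtain ⟨B, hB'⟩ := hB L
  have hJ : ∀ (a : A) (t : M × ℕ), t ∈ T → a ∈ Ideal.span (Set.range fun i => f i ^ L) → a • t.1 ∈ N := by
    intro a t ht ha
    induction ha using Submodule.span_induction with
    | zero => simp
    | mem a ha =>
      obtain ⟨i, rfl⟩ := ha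
      have hle : l ⟨t, ht⟩ i ≤ L := Finset.le_sup (f := fun ti : {t // t ∈ T} × ι => l ti.1 ti.2)
        (Finset.mem_univ (⟨t, ht⟩, i))
      change f i ^ L • t.1 ∈ N
      rw [← Nat.sub_add_cancel hle, pow_add, mul_smul]
      exact Submodule.smul_mem _ _ (hl ⟨t, ht⟩ i)
    | add a b _ _ ha hb => rw [add_smul]; exact add_mem ha hb
    | smul c a _ ha => rw [smul_eq_mul, mul_smul]; exact Submodule.smul_mem _ _ ha
  refine ⟨B + T.sup Prod.snd, fun n hn x hx hxn => ?_⟩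
  rw [← hG, Submodule.mem_span_finset] at hx
  obtain ⟨c, -, hc⟩ := hx
  rw [← comp_of_mem hxn, ← hc, comp_sum]
  refine Submodule.sum_mem _ fun g hg => ?_
  rw [show c g • g = c g • ∑ p ∈ (DirectSum.decompose ℳ g).support, comp ℳ p g from
    congrArg _ (DirectSum.sum_support_decompose ℳ g).symm, Finset.smul_sum, comp_sum]
  refine Submodule.sum_mem _ fun p hp => ?_
  have ht : (comp ℳ p g, p) ∈ T :=
    Finset.mem_biUnion.mpr ⟨g, hg, Finset.mem_image.mpr ⟨p, hp, rfl⟩⟩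
  have hpT : p ≤ T.sup Prod.snd := Finset.le_sup (f := Prod.snd) ht
  obtain ⟨k, hk⟩ : ∃ k, n = k + p := ⟨n - p, by omega⟩
  subst hk
  change comp ℳ (k + p) (c g • comp ℳ p g) ∈ N
  rw [comp_smul_add 𝒜 (comp_mem p g)]
  exact hJ _ _ ht (hB' k (by omega) _ (SetLike.coe_mem _))

/-- Compatible families of high degree modulo `N` come from `Q`. -/
def Good (N : Submodule A M) : Prop :=
  ∃ D : ℕ, ∀ n, D ≤ n → ∀ (k : ℕ) (z : ι → M), (∀ i, z i ∈ Q ∧ z i ∈ ℳ (n + k * d i)) →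
    (∀ i j, f j ^ k • z i - f i ^ k • z j ∈ N) →
      ∃ m ∈ Q, m ∈ ℳ n ∧ ∃ l : ℕ, ∀ i, f i ^ l • (f i ^ k • m - z i) ∈ N

omit hf hB hQ [IsNoetherian A Q] in
theorem cancel_pow {N : Submodule A M} (g : A) (h : ∀ x ∈ Q, g • x ∈ N → x ∈ N) :
    ∀ (j : ℕ) (x : M), x ∈ Q → g ^ j • x ∈ N → x ∈ N
  | 0, x, _, hx => by simpa using hx
  | j + 1, x, hxQ, hx => h x hxQ (cancel_pow g h j (g • x) (Q.smul_mem g hxQ) (by rwa [← mul_smul, ← pow_succ]))

theorem good_of_regular {N : Submodule A M} (hN : Hom ℳ N) (hNQ : N ≤ Q) (i₀ : ι)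
    (h : ∀ x ∈ Q, f i₀ • x ∈ N → x ∈ N) : Good (ℳ := ℳ) (Q := Q) f d N := by
  let Nf := N ⊔ Q.map (LinearMap.lsmul A M (f i₀))
  have hNf : Hom ℳ Nf := hN.sup (hQ.smul_map (hf i₀))
  obtain ⟨D, hD⟩ := exists_sat_bound f d hf hB hQ hNf
  refine ⟨D, fun n hn k z hz hc => ?_⟩
  have step : ∀ j, j ≤ k → ∃ y ∈ Q, z i₀ - f i₀ ^ j • y ∈ N := by
    intro j
    induction j with
    | zero => exact fun _ => ⟨z i₀, (hz i₀).1, by simp⟩
    | succ j ih =>
      intro hj
      obtain ⟨y₀, hy₀, hzy₀⟩ := ih (by omega)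
      let p := n + (k - j) * d i₀
      have e : n + k * d i₀ = j * d i₀ + p := by
        have : k * d i₀ = j * d i₀ + (k - j) * d i₀ := by rw [← Nat.add_mul, Nat.add_sub_cancel' (by omega)]
        omega
      let y := comp ℳ p y₀
      have hy : y ∈ Q := hQ y₀ hy₀ p
      have hzy : z i₀ - f i₀ ^ j • y ∈ N := by
        have := hN _ hzy₀ (n + k * d i₀)
        rwa [sub_eq_add_neg, ← smul_neg, comp_add, comp_of_mem (hz i₀).2, e,
          comp_smul_homog (show f i₀ ^ j ∈ 𝒜 (j * d i₀) from SetLike.pow_mem_graded j (hf i₀)) p,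
          comp_neg, smul_neg, ← sub_eq_add_neg] at this
      have hsat : y ∈ sat f Q Nf := by
        refine ⟨hy, fun i => ⟨k, ?_⟩⟩
        have h1 : f i₀ ^ j • (f i ^ k • y - f i₀ ^ (k - j) • z i) ∈ N := by
          have h2 := sub_mem (hc i₀ i) (Submodule.smul_mem _ (f i ^ k) hzy)
          have e2 : f i₀ ^ j • f i₀ ^ (k - j) • z i = f i₀ ^ k • z i := by
            rw [← mul_smul, ← pow_add, Nat.add_sub_cancel' (by omega : j ≤ k)]
          rw [smul_sub, e2, smul_comm (f i₀ ^ j) (f i ^ k)]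
          rw [smul_sub] at h2
          convert h2 using 1
          abel
        have h3 := cancel_pow (Q := Q) (f i₀) h j _
          (sub_mem (Q.smul_mem _ hy) (Q.smul_mem _ (hz i).1)) h1
        have h4 : f i₀ ^ (k - j) • z i ∈ Nf := by
          obtain ⟨r, hr⟩ : ∃ r, k - j = r + 1 := ⟨k - j - 1, by omega⟩
          rw [hr, pow_succ', mul_smul]
          exact Submodule.mem_sup_right ⟨_, Q.smul_mem _ (hz i).1, rfl⟩
        have := add_mem (Submodule.mem_sup_left h3 : f i ^ k • y - f i₀ ^ (k - j) • z i ∈ Nf) h4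
        rwa [sub_add_cancel] at this
      obtain ⟨ν, hν, _, ⟨w, hw, rfl⟩, hyw⟩ := Submodule.mem_sup.mp (hD p (by omega) y hsat (comp_mem p y₀))
      refine ⟨w, hw, ?_⟩
      rw [← hyw, smul_add, LinearMap.lsmul_apply, ← mul_smul, ← pow_succ] at hzy
      have := add_mem hzy (N.smul_mem (f i₀ ^ j) hν)
      convert this using 1
      abel
  obtain ⟨y, hy, hzy⟩ := step k le_rfl
  let m := comp ℳ n y
  have hzm : z i₀ - f i₀ ^ k • m ∈ N := by
    have := hN _ hzy (n + k * d i₀)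
    rwa [sub_eq_add_neg, ← smul_neg, comp_add, comp_of_mem (hz i₀).2, Nat.add_comm n,
      comp_smul_homog (show f i₀ ^ k ∈ 𝒜 (k * d i₀) from SetLike.pow_mem_graded k (hf i₀)) n,
      comp_neg, smul_neg, ← sub_eq_add_neg] at this
  refine ⟨m, hQ y hy n, comp_mem n y, 0, fun i => ?_⟩
  rw [pow_zero, one_smul]
  refine cancel_pow (Q := Q) (f i₀) h k _ (sub_mem (Q.smul_mem _ (hQ y hy n)) (hz i).1) ?_
  have h2 := sub_mem (hc i₀ i) (Submodule.smul_mem _ (f i ^ k) hzm)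
  rw [smul_sub, smul_comm (f i₀ ^ k) (f i ^ k)]
  rw [smul_sub] at h2
  convert h2 using 1
  abel

theorem good {N : Submodule A M} (hN : Hom ℳ N) (hNQ : N ≤ Q) : Good (ℳ := ℳ) (Q := Q) f d N := by
  classical
  generalize hN' : N.comap Q.subtype = N'
  induction N' using WellFoundedGT.induction generalizing N with
  | _ N' ih =>
  subst hN'
  have bigger : ∀ {K : Submodule A M}, N ≤ K → ∀ x ∈ K, x ∈ Q → x ∉ N →
      N.comap Q.subtype < K.comap Q.subtype := fun {K} hK x hxK hxQ hxN =>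
    lt_of_le_of_ne (Submodule.comap_mono hK) fun e => hxN (show (⟨x, hxQ⟩ : Q) ∈ N.comap Q.subtype by rw [e]; exact hxK)
  by_cases hsat : ∀ x ∈ sat f Q N, x ∈ N
  swap
  · push Not at hsat
    obtain ⟨x, hxS, hxN⟩ := hsat
    have hle : N ≤ sat f Q N := fun y hy => ⟨hNQ hy, fun i => ⟨0, by simpa using hy⟩⟩
    obtain ⟨D, hD⟩ := ih _ (bigger hle x hxS hxS.1 hxN) (hom_sat f d hf hQ hN) (fun y hy => hy.1) rfl
    refine ⟨D, fun n hn k z hz hc => ?_⟩
    obtain ⟨m, hm, hmn, l, hl⟩ := hD n hn k z hz fun i j => hle (hc i j)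
    choose l' hl' using fun i => (hl i).2 i
    refine ⟨m, hm, hmn, l + Finset.univ.sup l', fun i => ?_⟩
    have hle' : l' i ≤ Finset.univ.sup l' := Finset.le_sup (Finset.mem_univ i)
    rw [show l + Finset.univ.sup l' = (Finset.univ.sup l' - l' i) + (l' i + l) by omega, pow_add, mul_smul,
      pow_add (f i) (l' i), mul_smul (f i ^ l' i)]
    exact Submodule.smul_mem _ _ (hl' i)
  by_cases hreg : ∃ i₀, ∀ x ∈ Q, f i₀ • x ∈ N → x ∈ N
  · obtain ⟨i₀, hi₀⟩ := hreg
    exact good_of_regular f d hf hB hQ hN hNQ i₀ hi₀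
  push Not at hreg
  by_cases hall : ∀ i, ∀ x ∈ Q, ∃ l, f i ^ l • x ∈ N
  · refine ⟨0, fun n _ k z hz _ => ⟨0, zero_mem _, zero_mem _, 0, fun i => ?_⟩⟩
    exact Submodule.smul_mem _ _ (sub_mem (by simp) (hsat _ ⟨(hz i).1, fun j => hall j _ (hz i).1⟩))
  push Not at hall
  obtain ⟨i₀, x₀, hx₀Q, hx₀⟩ := hall
  obtain ⟨x₁, hx₁Q, hx₁, hx₁N⟩ := hreg i₀
  let K := sat1 (f i₀) Q N
  have hNK : N ≤ K := fun y hy => ⟨hNQ hy, 0, by simpa using hy⟩
  have hK : Hom ℳ K := hom_sat1 (hf i₀) hQ hN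
  have hKQ : K ≤ Q := fun y hy => hy.1
  obtain ⟨e, he⟩ : ∃ e, ∀ y ∈ K, f i₀ ^ e • y ∈ N := by
    have h : (K.comap Q.subtype).FG := IsNoetherian.noetherian _
    obtain ⟨G, hG⟩ := h
    have hGK : ∀ g ∈ G, ∃ l, f i₀ ^ l • (g : M) ∈ N := fun g hg =>
      (show g ∈ K.comap Q.subtype from hG ▸ Submodule.subset_span hg).2
    choose l hl using hGK
    refine ⟨G.attach.sup fun g => l g.1 g.2, fun y hy => ?_⟩
    have hy' : (⟨y, hKQ hy⟩ : Q) ∈ Submodule.span A (G : Set Q) := by rw [hG]; exact hy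
    have : ∀ w ∈ Submodule.span A (G : Set Q), f i₀ ^ (G.attach.sup fun g => l g.1 g.2) • (w : M) ∈ N := by
      intro w hw
      induction hw using Submodule.span_induction with
      | zero => simp
      | mem g hg =>
        have hle : l g hg ≤ G.attach.sup fun g => l g.1 g.2 :=
          Finset.le_sup (f := fun g : {g // g ∈ G} => l g.1 g.2) (Finset.mem_attach G ⟨g, hg⟩)
        rw [← Nat.sub_add_cancel hle, pow_add, mul_smul]
        exact Submodule.smul_mem _ _ (hl g hg)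
      | add a b _ _ ha hb => rw [Submodule.coe_add, smul_add]; exact add_mem ha hb
      | smul c a _ ha => rw [Submodule.coe_smul, smul_comm]; exact Submodule.smul_mem _ _ ha
    exact this _ hy'
  let L := N ⊔ Q.map (LinearMap.lsmul A M (f i₀ ^ e))
  have hL : Hom ℳ L := hN.sup (hQ.smul_map (SetLike.pow_mem_graded e (hf i₀)))
  have hLQ : L ≤ Q := sup_le hNQ (by rintro _ ⟨y, hy, rfl⟩; exact Q.smul_mem _ hy)
  have hKL : ∀ y, y ∈ K → y ∈ L → y ∈ N := by
    intro y hyK hyL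
    obtain ⟨ν, hν, _, ⟨w, hw, rfl⟩, rfl⟩ := Submodule.mem_sup.mp hyL
    simp only [LinearMap.lsmul_apply] at hyK ⊢
    have h1 : f i₀ ^ e • w ∈ K := by simpa using sub_mem hyK (hNK hν)
    obtain ⟨-, l, hl⟩ := h1
    have hwK : w ∈ K := ⟨hw, l + e, by rwa [pow_add, mul_smul]⟩
    exact add_mem hν (he w hwK)
  obtain ⟨D₁, hD₁⟩ := ih _ (bigger hNK x₁ ⟨hx₁Q, 1, by rwa [pow_one]⟩ hx₁Q hx₁N) hK hKQ rfl
  obtain ⟨D₂, hD₂⟩ := ih _ (bigger (K := L) le_sup_left (f i₀ ^ e • x₀)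
    (Submodule.mem_sup_right ⟨x₀, hx₀Q, rfl⟩) (Q.smul_mem _ hx₀Q) (hx₀ e)) hL hLQ rfl
  obtain ⟨D₃, hD₃⟩ := exists_sat_bound f d hf hB hQ (hK.sup hL)
  refine ⟨D₁ + D₂ + D₃, fun n hn k z hz hc => ?_⟩
  obtain ⟨m₁, hm₁, hm₁n, l₁, hl₁⟩ := hD₁ n (by omega) k z hz fun i j => hNK (hc i j)
  obtain ⟨m₂, hm₂, hm₂n, l₂, hl₂⟩ := hD₂ n (by omega) k z hz fun i j => Submodule.mem_sup_left (hc i j)
  have hm : m₁ - m₂ ∈ sat f Q (K ⊔ L) := by
    refine ⟨sub_mem hm₁ hm₂, fun i => ⟨l₁ + l₂ + k, ?_⟩⟩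
    rw [pow_add (f i) (l₁ + l₂) k, mul_smul, smul_sub (f i ^ k),
      ← sub_sub_sub_cancel_right _ _ (z i), smul_sub]
    refine sub_mem (Submodule.mem_sup_left ?_) (Submodule.mem_sup_right ?_)
    · rw [add_comm, pow_add, mul_smul]; exact Submodule.smul_mem _ _ (hl₁ i)
    · rw [pow_add, mul_smul]; exact Submodule.smul_mem _ _ (hl₂ i)
  obtain ⟨a, ha, b, hb, hab⟩ := Submodule.mem_sup.mp (hD₃ n (by omega) _ hm (sub_mem hm₁n hm₂n))
  let an := comp ℳ n a
  let bn := comp ℳ n b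
  have habn : an + bn = m₁ - m₂ := by rw [← comp_add, hab, comp_of_mem (sub_mem hm₁n hm₂n)]
  have hcomm : m₁ - an = m₂ + bn := by
    rw [sub_eq_iff_eq_add, add_assoc, add_comm bn an, habn, add_sub_cancel]
  refine ⟨m₁ - an, sub_mem hm₁ (hKQ (hK a ha n)), sub_mem hm₁n (comp_mem n a), l₁ + l₂, fun i => hKL _ ?_ ?_⟩
  · rw [smul_sub (f i ^ k) m₁, sub_right_comm, smul_sub]
    refine sub_mem ?_ (Submodule.smul_mem _ _ (Submodule.smul_mem _ _ (hK a ha n)))
    rw [add_comm, pow_add, mul_smul]; exact Submodule.smul_mem _ _ (hl₁ i)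
  · rw [hcomm, smul_add (f i ^ k), add_sub_right_comm, smul_add]
    refine add_mem ?_ (Submodule.smul_mem _ _ (Submodule.smul_mem _ _ (hL b hb n)))
    rw [pow_add, mul_smul]; exact Submodule.smul_mem _ _ (hl₂ i)

end Bound

variable (𝒜) in
/-- Homogeneous generators of the irrelevant ideal. -/
theorem exists_generators [IsNoetherianRing A] :
    ∃ (T : Finset (A × ℕ)), (∀ t ∈ T, 0 < t.2 ∧ t.1 ∈ 𝒜 t.2) ∧
      (HomogeneousIdeal.irrelevant 𝒜).toIdeal = Ideal.span (Set.range fun t : T => t.1.1) := by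
  classical
  obtain ⟨G, hG⟩ : (HomogeneousIdeal.irrelevant 𝒜).toIdeal.FG := IsNoetherian.noetherian _
  let T : Finset (A × ℕ) := G.biUnion fun g =>
    ((DirectSum.decompose 𝒜 g).support.filter (0 < ·)).image fun p => ((DirectSum.decompose 𝒜 g p : A), p)
  have hT : ∀ t ∈ T, 0 < t.2 ∧ t.1 ∈ 𝒜 t.2 := by
    intro t ht
    simp only [T, Finset.mem_biUnion, Finset.mem_image, Finset.mem_filter] at ht
    obtain ⟨g, -, p, ⟨-, hp⟩, rfl⟩ := ht
    exact ⟨hp, SetLike.coe_mem _⟩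
  refine ⟨T, hT, le_antisymm ?_ ?_⟩
  · rw [← hG, Submodule.span_le]
    intro g hg
    have hg0 : (DirectSum.decompose 𝒜 g 0 : A) = 0 := by
      have : g ∈ HomogeneousIdeal.irrelevant 𝒜 := by
        change g ∈ (HomogeneousIdeal.irrelevant 𝒜).toIdeal
        rw [← hG]; exact Submodule.subset_span hg
      rwa [HomogeneousIdeal.mem_irrelevant_iff, GradedRing.proj_apply] at this
    rw [SetLike.mem_coe, ← DirectSum.sum_support_decompose 𝒜 g]
    refine Ideal.sum_mem _ fun p hp => ?_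
    rcases Nat.eq_zero_or_pos p with rfl | hp0
    · rw [hg0]; exact zero_mem _
    · exact Ideal.subset_span ⟨⟨_, Finset.mem_biUnion.mpr
        ⟨g, hg, Finset.mem_image.mpr ⟨p, Finset.mem_filter.mpr ⟨hp, hp0⟩, rfl⟩⟩⟩, rfl⟩
  · rw [Ideal.span_le]
    rintro _ ⟨t, rfl⟩
    exact GrModLib6.mem_irrelevant_of_mem 𝒜 (hT t.1 t.2).1 (hT t.1 t.2).2

theorem exists_degree_bound [IsNoetherianRing A] {T : Finset (A × ℕ)}
    (hT : ∀ t ∈ T, 0 < t.2 ∧ t.1 ∈ 𝒜 t.2)
    (hspan : (HomogeneousIdeal.irrelevant 𝒜).toIdeal = Ideal.span (Set.range fun t : T => t.1.1)) (l : ℕ) :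
    ∃ B : ℕ, ∀ p, B ≤ p → ∀ a ∈ 𝒜 p, a ∈ Ideal.span (Set.range fun t : T => t.1.1 ^ l) := by
  classical
  let I := (HomogeneousIdeal.irrelevant 𝒜).toIdeal
  let J := Ideal.span (Set.range fun t : T => t.1.1 ^ l)
  have hrad : I ≤ J.radical := by
    rw [show I = _ from hspan, Ideal.span_le]
    rintro _ ⟨t, rfl⟩
    exact ⟨l, Ideal.subset_span ⟨t, rfl⟩⟩
  obtain ⟨q, hq⟩ := Ideal.exists_pow_le_of_le_radical_of_fg hrad (IsNoetherian.noetherian _)
  let E := T.sup Prod.snd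
  have key : ∀ (q p : ℕ), q * E < p → ∀ a ∈ 𝒜 p, a ∈ I ^ q := by
    intro q
    induction q with
    | zero => intro p _ a _; simp
    | succ q ih =>
      intro p hp a ha
      have haI : a ∈ Ideal.span (Set.range fun t : T => t.1.1) :=
        hspan ▸ GrModLib6.mem_irrelevant_of_mem 𝒜 (by omega) ha
      obtain ⟨c, hc⟩ := (Submodule.mem_span_range_iff_exists_fun A).mp haI
      rw [← DirectSum.decompose_of_mem_same 𝒜 ha, ← hc, DirectSum.decompose_sum, DFinsupp.finsetSum_apply,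
        AddSubmonoidClass.coe_finsetSum]
      refine Ideal.sum_mem _ fun t _ => ?_
      have hE : t.1.2 ≤ E := Finset.le_sup (f := Prod.snd) t.2
      have hp' : q * E + E < p := by rwa [Nat.succ_mul] at hp
      rw [smul_eq_mul, DirectSum.coe_decompose_mul_of_right_mem_of_le 𝒜 (hT t.1 t.2).2 (by omega), pow_succ]
      exact Ideal.mul_mem_mul (ih _ (by omega) _ (SetLike.coe_mem _)) (by rw [show I = _ from hspan]; exact Ideal.subset_span ⟨t, rfl⟩)
  exact ⟨q * E + 1, fun p hp a ha => hq (key q p (by omega) a ha)⟩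

end GrAlphaLib
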