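import Groth.Agent.GrAlphaLib.Main
import Groth.Agent.GrTildeLib.MulTwist
import Groth.Agent.ProjCohTwLib.Main
import Groth.Agent.EGA2SymLib.CanMap
import Groth.Agent.DegPullLib.H0
import Groth.Prelude.Def_ega3
import Mathlib.RingTheory.Length
import Mathlib.RingTheory.Artinian.Ring

/-!
# The Euler characteristic of `M(n)~` in high degree
-/

set_option autoImplicit false
set_option linter.unusedSectionVars false

universe u

open CategoryTheory AlgebraicGeometry Opposite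

noncomputable section

namespace GrAlphaLib

variable {A S : Type u} [CommRing A] [CommRing S] [Algebra A S] (𝒜 : ℕ → Submodule A S) [GradedAlgebra 𝒜]

theorem irrelevant_le_span {r : ℕ} (g : Fin (r + 1) → S) (hg1 : ∀ i, g i ∈ 𝒜 1)
    (hgen : Algebra.adjoin A (Set.range g) = ⊤) :
    (HomogeneousIdeal.irrelevant 𝒜).toIdeal ≤ Ideal.span (𝒜 1 : Set S) := by
  classical
  have key : ∀ x ∈ Algebra.adjoin A (Set.range g), ∃ a : A, x - algebraMap A S a ∈ Ideal.span (𝒜 1 : Set S) := by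
    intro x hx
    induction hx using Algebra.adjoin_induction with
    | mem x hx =>
      obtain ⟨i, rfl⟩ := hx
      exact ⟨0, by simpa using Ideal.subset_span (hg1 i)⟩
    | algebraMap a => exact ⟨a, by simp⟩
    | add x y _ _ hx hy =>
      obtain ⟨a, ha⟩ := hx
      obtain ⟨b, hb⟩ := hy
      exact ⟨a + b, by rw [map_add, add_sub_add_comm]; exact add_mem ha hb⟩
    | mul x y _ _ hx hy =>
      obtain ⟨a, ha⟩ := hx
      obtain ⟨b, hb⟩ := hy
      refine ⟨a * b, ?_⟩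
      have e : x * y - algebraMap A S (a * b) =
          (x - algebraMap A S a) * y + algebraMap A S a * (y - algebraMap A S b) := by rw [map_mul]; ring
      rw [e]
      exact add_mem (Ideal.mul_mem_right _ _ ha) (Ideal.mul_mem_left _ _ hb)
  intro x hx
  obtain ⟨a, ha⟩ := key x (hgen ▸ trivial)
  have hle : Ideal.span (𝒜 1 : Set S) ≤ (HomogeneousIdeal.irrelevant 𝒜).toIdeal :=
    Ideal.span_le.mpr fun y hy => GrModLib6.mem_irrelevant_of_mem 𝒜 one_pos hy
  have ha0 : algebraMap A S a ∈ (HomogeneousIdeal.irrelevant 𝒜).toIdeal := by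
    have := sub_mem hx (hle ha)
    rwa [sub_sub_cancel] at this
  have h0 : algebraMap A S a = 0 := by
    have h1 := GrModLib6.decompose_zero_of_mem_irrelevant 𝒜 ha0
    rwa [DirectSum.decompose_of_mem_same 𝒜 (SetLike.algebraMap_mem_graded 𝒜 a)] at h1
  rwa [h0, sub_zero] at ha

theorem val_toGlobal (a : A) (y : (⊤ : (Proj 𝒜).Opens)) :
    ((show Twist.O (op (⊤ : (Proj 𝒜).Opens)) from
        Coh.toGlobal (Proj 𝒜 ↘ Spec (CommRingCat.of A)) a).1 y).val =
      algebraMap S (Twist.Loc 𝒜 y.1) (algebraMap A S a) := by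
  refine Eq.trans ?_ (EGA2SymLib.val_toSpecZero_appTop 𝒜 (algebraMap A (𝒜 0) a) y)
  refine congrArg (fun z : Γ(Proj 𝒜, ⊤) =>
    ((show Twist.O (op (⊤ : (Proj 𝒜).Opens)) from z).1 y).val) ?_
  change (Proj.toSpecZero 𝒜 ≫ Spec.map (CommRingCat.ofHom (algebraMap A (𝒜 0)))).appTop
    ((Scheme.ΓSpecIso (CommRingCat.of A)).inv a) = _
  rw [Scheme.Hom.comp_appTop, CommRingCat.comp_apply]
  exact congrArg _ (congr($((Scheme.ΓSpecIso_inv_naturality (CommRingCat.ofHom (algebraMap A (𝒜 0)))).symm) a))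

variable {M : Type u} [AddCommGroup M] [Module A M] [Module S M] [IsScalarTower A S M]
  (ℳ : ℕ → Submodule A M) [DirectSum.Decomposition ℳ] [SetLike.GradedSMul 𝒜 ℳ]

/-- `M_n → H⁰(X, M(n)~)`, linearly. -/
def toH0 (n : ℕ) : ℳ n →ₗ[A] Coh.HH (Proj 𝒜) (GrTilde.tilde 𝒜 ℳ (n : ℤ)) 0 where
  toFun m := (DegPullLib.e0 (GrTilde.tilde 𝒜 ℳ (n : ℤ))).symm (GrTilde.globalOf 𝒜 ℳ m)
  map_add' m m' := by
    rw [← map_add]
    refine congrArg _ (GrTildeLib.sec_ext fun x => ?_)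
    exact ((LocalizedModule.mkLinearMap _ M).map_add (m : M) m')
  map_smul' a m := by
    apply (DegPullLib.e0 (GrTilde.tilde 𝒜 ℳ (n : ℤ))).injective
    refine (AddEquiv.apply_symm_apply _ _).trans (Eq.symm ?_)
    refine (DegPullLib.e0_smul _ (Coh.toGlobal (Proj 𝒜 ↘ Spec (CommRingCat.of A)) a) _).trans ?_
    rw [AddEquiv.apply_symm_apply]
    refine GrTildeLib.sec_ext fun x => (GrTildeLib.val_smul _ _ x).trans ?_
    refine (congrArg (· • _) (val_toGlobal 𝒜 a x)).trans ?_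
    refine (IsScalarTower.algebraMap_smul _ _ _).trans ?_
    refine (LocalizedModule.smul'_mk (algebraMap A S a) (m : M) _).trans ?_
    rw [algebraMap_smul]
    rfl

theorem euler_eq_length [IsArtinianRing A] (r : ℕ) (g : Fin (r + 1) → S) (hg1 : ∀ i, g i ∈ 𝒜 1)
    (hgen : Algebra.adjoin A (Set.range g) = ⊤) [Module.Finite S M] :
    ∃ N : ℕ, ∀ n : ℕ, N ≤ n →
      ((Finset.range (r + 1)).sum fun j => (-1 : ℤ) ^ j *
          ((Module.length A (Coh.HH (Proj 𝒜) (GrTilde.tilde 𝒜 ℳ (n : ℤ)) j)).toNat : ℤ)) =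
        ((Module.length A ↥(ℳ n)).toNat : ℤ) := by
  classical
  haveI : Algebra.FiniteType A S := ⟨⟨(Finset.univ.image g : Finset S), by
    rw [Finset.coe_image, Finset.coe_univ, Set.image_univ]; exact hgen⟩⟩
  haveI : IsNoetherianRing S := Algebra.FiniteType.isNoetherianRing A S
  haveI : IsNoetherian S M := isNoetherian_of_isNoetherianRing_of_finite S M
  have hFT := GrTildeLib.isFT_tilde (𝒜 := 𝒜) (ℳ := ℳ) (IsNoetherian.noetherian _) ⟨0, IsNoetherian.noetherian _⟩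
  have hQ := GrTildeLib.isQCoh_tilde (𝒜 := 𝒜) (ℳ := ℳ) 0
  obtain ⟨d₀, hd₀⟩ := ProjCohTwLib.serre_vanishing 𝒜 (GrTilde.tilde 𝒜 ℳ 0) ⟨hQ, hFT⟩
  obtain ⟨D, hD⟩ := exists_globalOf_bijective 𝒜 ℳ
  refine ⟨D + d₀.toNat, fun n hn => ?_⟩
  obtain ⟨e⟩ := GrTildeLib.twistBy_iso (ℳ := ℳ) (p := 0) (n := (n : ℤ)) (q := (n : ℤ)) (zero_add _)
    (GrTildeLib.cover_of_gen 𝒜 (irrelevant_le_span 𝒜 g hg1 hgen))
  have hvan : ∀ j, 0 < j → Subsingleton (Coh.HH (Proj 𝒜) (GrTilde.tilde 𝒜 ℳ (n : ℤ)) j) := fun j hj =>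
    SerreVanLib.subsingleton_HH_of_iso e.symm j (hd₀ n (by omega) j hj)
  rw [Finset.sum_eq_single 0]
  · rw [pow_zero, one_mul]
    have hb : Function.Bijective (toH0 𝒜 ℳ n) :=
      (DegPullLib.e0 (GrTilde.tilde 𝒜 ℳ (n : ℤ))).symm.bijective.comp (hD n (by omega))
    rw [(LinearEquiv.ofBijective (toH0 𝒜 ℳ n) hb).length_eq]
  · intro j _ hj
    haveI := hvan j (Nat.pos_of_ne_zero hj)
    rw [Module.length_eq_zero, ENat.toNat_zero]
    simp
  · intro h
    exact absurd (Finset.mem_range.mpr (Nat.succ_pos r)) h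

end GrAlphaLib
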