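import Groth.Agent.GrAlphaLib.Main

/-!
# Eventual generation of `n ↦ Γ(X, M(n)~)` in degree one
-/

set_option autoImplicit false
set_option linter.unusedSectionVars false

universe u

open CategoryTheory AlgebraicGeometry DirectSum Opposite TopologicalSpace

noncomputable section

namespace GrAlphaLib

variable {A σ : Type u} [CommRing A] [SetLike σ A] [AddSubgroupClass σ A] {𝒜 : ℕ → σ} [GradedRing 𝒜]
  {M τ : Type u} [AddCommGroup M] [Module A M] [SetLike τ M] [AddSubgroupClass τ M] {ℳ : ℕ → τ}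
  [SetLike.GradedSMul 𝒜 ℳ] [DirectSum.Decomposition ℳ]

variable (𝒜 ℳ) in
/-- The sums of products `a • y` with `a` of degree `e` and `y` of degree `k`. -/
def prodSet (e k : ℕ) : AddSubgroup M :=
  AddSubgroup.closure {w | ∃ a ∈ 𝒜 e, ∃ y ∈ ℳ k, w = a • y}

theorem exists_prod_bound
    (hgen : (HomogeneousIdeal.irrelevant 𝒜).toIdeal = Ideal.span (𝒜 1 : Set A))
    (hTF : ∃ k : ℕ, (Submodule.span A (⋃ i ∈ Set.Ici k, (ℳ i : Set M))).FG) :
    ∃ K : ℕ, ∀ k, K ≤ k → ∀ (e : ℕ), ∀ y ∈ ℳ (k + e), y ∈ prodSet 𝒜 ℳ e k := by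
  classical
  obtain ⟨k₀, G, hG⟩ := hTF
  have hone : ∀ (j : ℕ), ∀ a ∈ 𝒜 (j + 1), ∀ p, ∀ y ∈ ℳ p, a • y ∈ prodSet 𝒜 ℳ 1 (j + p) := by
    intro j a ha p y hy
    have haI : a ∈ Ideal.span (𝒜 1 : Set A) := hgen ▸ GrModLib6.mem_irrelevant_of_mem 𝒜 (Nat.succ_pos j) ha
    have key : ∀ z ∈ Ideal.span (𝒜 1 : Set A),
        (DirectSum.decompose 𝒜 z (j + 1) : A) • y ∈ prodSet 𝒜 ℳ 1 (j + p) := by
      intro z hz
      induction hz using Submodule.span_induction with
      | zero => simp
      | mem b hb =>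
        by_cases hj : j = 0
        · subst hj
          rw [DirectSum.decompose_of_mem_same 𝒜 hb]
          exact AddSubgroup.subset_closure ⟨b, hb, y, by simpa using hy, rfl⟩
        · rw [DirectSum.decompose_of_mem_ne 𝒜 hb (by omega), zero_smul]; exact zero_mem _
      | add b c _ _ hb hc =>
        rw [DirectSum.decompose_add, DirectSum.add_apply, AddMemClass.coe_add, add_smul]
        exact add_mem hb hc
      | smul c b hbI hb =>
        rw [smul_eq_mul]
        clear hb
        induction hbI using Submodule.span_induction generalizing c with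
        | zero => simp
        | mem b hb =>
          rw [DirectSum.coe_decompose_mul_of_right_mem_of_le 𝒜 hb (Nat.le_add_left 1 j), Nat.add_sub_cancel,
            mul_comm, mul_smul]
          exact AddSubgroup.subset_closure ⟨b, hb, _,
            SetLike.GradedSMul.smul_mem (DirectSum.decompose 𝒜 c j).2 hy, rfl⟩
        | add b b' _ _ hb hb' =>
          rw [mul_add, DirectSum.decompose_add, DirectSum.add_apply, AddMemClass.coe_add, add_smul]
          exact add_mem (hb c) (hb' c)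
        | smul c' b _ hb => rw [smul_eq_mul, ← mul_assoc]; exact hb (c * c')
    have := key a haI
    rwa [DirectSum.decompose_of_mem_same 𝒜 ha] at this
  let K := G.sup fun g => (DirectSum.decompose ℳ g).support.sup id
  refine ⟨k₀ + K, fun k hk e => ?_⟩
  induction e with
  | zero =>
    intro y hy
    exact AddSubgroup.subset_closure ⟨1, SetLike.GradedOne.one_mem, y, hy, (one_smul A y).symm⟩
  | succ e ih =>
    intro y hy
    have hyQ : y ∈ Submodule.span A (G : Set M) := by
      rw [hG]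
      exact Submodule.subset_span (Set.mem_iUnion₂.mpr ⟨k + (e + 1), by simp only [Set.mem_Ici]; omega, hy⟩)
    obtain ⟨c, -, hc⟩ := Submodule.mem_span_finset.mp hyQ
    have hstep : ∀ w ∈ prodSet 𝒜 ℳ 1 (k + e), w ∈ prodSet 𝒜 ℳ (e + 1) k := by
      intro w hw
      induction hw using AddSubgroup.closure_induction with
      | zero => exact zero_mem _
      | add a b _ _ ha hb => exact add_mem ha hb
      | neg a _ ha => exact neg_mem ha
      | mem w hw =>
        obtain ⟨b, hb, z, hz, rfl⟩ := hw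
        have hz' := ih z hz
        clear hz
        induction hz' using AddSubgroup.closure_induction with
        | zero => rw [smul_zero]; exact zero_mem _
        | add x x' _ _ hx hx' => rw [smul_add]; exact add_mem hx hx'
        | neg x _ hx => rw [smul_neg]; exact neg_mem hx
        | mem z hz =>
          obtain ⟨a, ha, x, hx, rfl⟩ := hz
          refine AddSubgroup.subset_closure ⟨b * a, ?_, x, hx, (mul_smul b a x).symm⟩
          rw [Nat.add_comm e 1]
          exact SetLike.mul_mem_graded hb ha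
    refine hstep y ?_
    rw [← comp_of_mem hy, ← hc, comp_sum]
    refine AddSubgroup.sum_mem _ fun g hg => ?_
    rw [show c g • g = c g • ∑ p ∈ (DirectSum.decompose ℳ g).support, comp ℳ p g from
      congrArg _ (DirectSum.sum_support_decompose ℳ g).symm, Finset.smul_sum, comp_sum]
    refine AddSubgroup.sum_mem _ fun p hp => ?_
    have hpK : p ≤ K := (Finset.le_sup (f := id) hp).trans
      (Finset.le_sup (f := fun g => (DirectSum.decompose ℳ g).support.sup id) hg)
    obtain ⟨j, hj⟩ : ∃ j, k + (e + 1) = (j + 1) + p := ⟨k + e - p, by omega⟩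
    rw [hj, comp_smul_add 𝒜 (comp_mem p g)]
    have := hone j _ (SetLike.coe_mem (DirectSum.decompose 𝒜 (c g) (j + 1))) p _ (comp_mem p g)
    rwa [show j + p = k + e by omega] at this

theorem exists_smulSect_generation [IsNoetherianRing A]
    (hgen : (HomogeneousIdeal.irrelevant 𝒜).toIdeal = Ideal.span (𝒜 1 : Set A))
    (hTF : ∃ k : ℕ, (Submodule.span A (⋃ i ∈ Set.Ici k, (ℳ i : Set M))).FG) :
    ∃ k : ℕ, ∀ e : ℕ,
      (⨆ a : 𝒜 e, (GrMod.smulSect 𝒜 ℳ a (k : ℤ)
        (op (⊤ : Opens (ProjectiveSpectrum.top 𝒜)))).range) = ⊤ := by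
  obtain ⟨K, hK⟩ := exists_prod_bound hgen hTF
  obtain ⟨D, hD⟩ := exists_alpha_bijective 𝒜 ℳ hTF
  refine ⟨K + D, fun e => eq_top_iff.mpr fun s _ => ?_⟩
  obtain ⟨m, hm⟩ := (hD (K + D + e) (by omega)).2 s
  let S := ⨆ a : 𝒜 e, (GrMod.smulSect 𝒜 ℳ a ((K + D : ℕ) : ℤ)
    (op (⊤ : Opens (ProjectiveSpectrum.top 𝒜)))).range
  suffices h : ∀ y (hy : y ∈ ℳ (K + D + e)), GrMod.alpha 𝒜 ℳ (K + D + e) ⟨y, hy⟩ ∈ S by
    rw [← hm]; exact h m.1 m.2
  intro y hy
  have hy' := hK (K + D) (by omega) e y hy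
  suffices h : ∃ t ∈ S, ∀ x, (t.1 x : GrMod.LocMod 𝒜 (M := M) x.1) = LocalizedModule.mk y 1 by
    obtain ⟨t, ht, hval⟩ := h
    have e' : GrMod.globalOf 𝒜 ℳ ⟨y, hy⟩ = t := by
      refine Subtype.ext (funext fun x => Subtype.ext ?_)
      exact (hval x).symm
    change GrMod.globalOf 𝒜 ℳ ⟨y, hy⟩ ∈ S
    rw [e']; exact ht
  clear hy
  induction hy' using AddSubgroup.closure_induction with
  | zero => exact ⟨0, zero_mem _, fun x => (LocalizedModule.zero_mk 1).symm⟩
  | add a b _ _ ha hb =>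
    obtain ⟨t, ht, h⟩ := ha
    obtain ⟨t', ht', h'⟩ := hb
    exact ⟨t + t', add_mem ht ht', fun x => (congr_arg₂ (· + ·) (h x) (h' x)).trans
      ((LocalizedModule.mkLinearMap _ M).map_add a b).symm⟩
  | neg a _ ha =>
    obtain ⟨t, ht, h⟩ := ha
    exact ⟨-t, neg_mem ht, fun x => (congrArg (- ·) (h x)).trans
      ((LocalizedModule.mkLinearMap _ M).map_neg a).symm⟩
  | mem w hw =>
    obtain ⟨a, ha, z, hz, rfl⟩ := hw
    refine ⟨GrMod.smulSect 𝒜 ℳ ⟨a, ha⟩ _ _ (GrMod.globalOf 𝒜 ℳ ⟨z, hz⟩),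
      AddSubgroup.mem_iSup_of_mem ⟨a, ha⟩ ⟨_, rfl⟩, fun x => ?_⟩
    rw [GrMod.smulSect_apply_coe]
    refine (LocalizedModule.mk_smul_mk a z 1 1).trans ?_
    rw [one_mul]

end GrAlphaLib
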