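import Groth.Agent.GrAlphaLib.Bound
import Groth.Agent.GrTildeLib.Chart

/-!
# `M_n → Γ(Proj, M(n)~)` is bijective in high degree
-/

set_option autoImplicit false

universe u

open CategoryTheory AlgebraicGeometry DirectSum Opposite

noncomputable section

namespace GrAlphaLib

theorem exists_alpha_bijective {A σ : Type u} [CommRing A] [IsNoetherianRing A]
    [SetLike σ A] [AddSubgroupClass σ A] (𝒜 : ℕ → σ) [GradedRing 𝒜]
    {M τ : Type u} [AddCommGroup M] [Module A M] [SetLike τ M] [AddSubgroupClass τ M] (ℳ : ℕ → τ)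
    [SetLike.GradedSMul 𝒜 ℳ] [DirectSum.Decomposition ℳ]
    (hTF : ∃ k : ℕ, (Submodule.span A (⋃ i ∈ Set.Ici k, (ℳ i : Set M))).FG) :
    ∃ N : ℕ, ∀ n : ℕ, N ≤ n → Function.Bijective (GrMod.alpha 𝒜 ℳ n) := by
  obtain ⟨D, hD⟩ := exists_bound (𝒜 := 𝒜) hTF
  refine ⟨D, fun n hn => ⟨?_, fun t => ?_⟩⟩
  · rw [injective_iff_map_eq_zero]
    intro m hm
    exact Subtype.ext ((hD n hn).1 m m.2 fun x =>
      congrArg Subtype.val (congrFun (congrArg Subtype.val hm) ⟨x, trivial⟩))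
  · obtain ⟨m, hm, hv⟩ := (hD n hn).2 (fun x => GrModLib6.val t ⟨x, trivial⟩) fun d f hd hf => by
      obtain ⟨k, i, m, hm, hi, hval⟩ := GrModLib6.exists_eq_frac hd hf
        ((GrMod.tilde 𝒜 ℳ (n : ℤ)).presheaf.map (homOfLE (le_top : Proj.basicOpen 𝒜 f ≤ ⊤)).op t)
      exact ⟨k, i, m, hm, hi, fun x hx => hval ⟨x, hx⟩⟩
    exact ⟨⟨m, hm⟩, GrModLib6.sec_ext fun x => (hv x.1).symm⟩

theorem exists_globalOf_bijective {R A : Type u} [CommRing R] [CommRing A] [Algebra R A]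
    (𝒜 : ℕ → Submodule R A) [GradedAlgebra 𝒜] [IsNoetherianRing A]
    {M : Type u} [AddCommGroup M] [Module R M] [Module A M] [IsScalarTower R A M] [Module.Finite A M]
    (ℳ : ℕ → Submodule R M) [DirectSum.Decomposition ℳ] [SetLike.GradedSMul 𝒜 ℳ] :
    ∃ N : ℕ, ∀ n : ℕ, N ≤ n → Function.Bijective (fun m : ℳ n => GrTilde.globalOf 𝒜 ℳ m) := by
  have : IsNoetherian A M := isNoetherian_of_isNoetherianRing_of_finite A M
  obtain ⟨D, hD⟩ := exists_bound (𝒜 := 𝒜) (ℳ := ℳ) ⟨0, IsNoetherian.noetherian _⟩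
  refine ⟨D, fun n hn => ⟨fun m m' h => ?_, fun t => ?_⟩⟩
  · refine Subtype.ext (sub_eq_zero.mp ((hD n hn).1 _ (sub_mem m.2 m'.2) fun x => ?_))
    have h1 : (LocalizedModule.mk (m : M) 1 : LocalizedModule x.asHomogeneousIdeal.toIdeal.primeCompl M) =
        LocalizedModule.mk (m' : M) 1 := congrArg Subtype.val (congrFun (congrArg Subtype.val h) ⟨x, trivial⟩)
    exact ((LocalizedModule.mkLinearMap _ M).map_sub _ _).trans (sub_eq_zero.mpr h1)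
  · let t' : Γ(GrTilde.tilde 𝒜 ℳ (n : ℤ), (⊤ : (Proj 𝒜).Opens)) := t
    obtain ⟨m, hm, hv⟩ := (hD n hn).2 (fun x => GrTildeLib.val t' ⟨x, trivial⟩) fun d f hd hf => by
      obtain ⟨k, i, m, hm, hi, hval⟩ := GrTildeLib.exists_eq_frac hd hf
        ((GrTilde.tilde 𝒜 ℳ (n : ℤ)).presheaf.map (homOfLE (le_top : Proj.basicOpen 𝒜 f ≤ ⊤)).op t')
      exact ⟨k, i, m, hm, hi, fun x hx => hval ⟨x, hx⟩⟩
    exact ⟨⟨m, hm⟩, GrTildeLib.sec_ext (t := (show Γ(GrTilde.tilde 𝒜 ℳ (n : ℤ), (⊤ : (Proj 𝒜).Opens)) from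
      GrTilde.globalOf 𝒜 ℳ ⟨m, hm⟩)) (t' := t') fun x => (hv x.1).symm⟩

end GrAlphaLib
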