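import Groth.Agent.GrAlphaLib.Core
import Mathlib.RingTheory.Ideal.Operations

/-! # An element killing a sum of homogeneous elements of distinct degrees -/

set_option autoImplicit false
set_option linter.unusedSectionVars false

universe u

open DirectSum

noncomputable section

namespace GrAlphaLib

variable {A σ : Type u} [CommRing A] [SetLike σ A] [AddSubgroupClass σ A] {𝒜 : ℕ → σ} [GradedRing 𝒜]
  {M τ : Type u} [AddCommGroup M] [Module A M] [SetLike τ M] [AddSubgroupClass τ M] {ℳ : ℕ → τ}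
  [SetLike.GradedSMul 𝒜 ℳ] [DirectSum.Decomposition ℳ]

variable (𝒜) in
/-- No components above `C`. -/
def DegLE (a : A) (C : ℕ) : Prop := ∀ c, C < c → (DirectSum.decompose 𝒜 a c : A) = 0

theorem comp_mul {a b : A} {C D : ℕ} (ha : DegLE 𝒜 a C) (hb : DegLE 𝒜 b D) :
    DegLE 𝒜 (a * b) (C + D) ∧ (DirectSum.decompose 𝒜 (a * b) (C + D) : A) =
      (DirectSum.decompose 𝒜 a C : A) * (DirectSum.decompose 𝒜 b D : A) := by
  classical
  have key : ∀ q, C + D ≤ q → (DirectSum.decompose 𝒜 (a * b) q : A) =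
      ∑ e ∈ (DirectSum.decompose 𝒜 b).support, if e = D ∧ q = C + D then
        (DirectSum.decompose 𝒜 a C : A) * (DirectSum.decompose 𝒜 b e : A) else 0 := by
    intro q hq
    conv_lhs => rw [← DirectSum.sum_support_decompose 𝒜 b, Finset.mul_sum, DirectSum.decompose_sum,
      DFinsupp.finsetSum_apply, AddSubmonoidClass.coe_finsetSum]
    refine Finset.sum_congr rfl fun e _ => ?_
    by_cases he : e ≤ D
    · obtain ⟨k, rfl⟩ : ∃ k, q = k + e := ⟨q - e, by omega⟩
      rw [DirectSum.coe_decompose_mul_add_of_right_mem 𝒜 (SetLike.coe_mem _)]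
      split_ifs with h
      · obtain rfl : k = C := by omega
        rfl
      · rw [ha k (by omega), zero_mul]
    · rw [hb e (by omega), mul_zero, DirectSum.decompose_zero, DirectSum.zero_apply, ZeroMemClass.coe_zero,
        mul_zero, if_neg (fun h => he h.1.le)]
  refine ⟨fun c hc => ?_, ?_⟩
  · rw [key c hc.le]
    exact Finset.sum_eq_zero fun e _ => if_neg (by omega)
  · rw [key _ le_rfl, Finset.sum_eq_single D (fun e _ he => if_neg (by omega)) fun h => ?_, if_pos ⟨rfl, rfl⟩]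
    rw [if_pos ⟨rfl, rfl⟩, DFinsupp.notMem_support_iff.1 h, ZeroMemClass.coe_zero, mul_zero]

theorem degLE_one : DegLE 𝒜 (1 : A) 0 := fun c hc =>
  DirectSum.decompose_of_mem_ne 𝒜 SetLike.GradedOne.one_mem (by omega)

theorem comp_pow {a : A} {C : ℕ} (ha : DegLE 𝒜 a C) : ∀ m : ℕ, DegLE 𝒜 (a ^ m) (m * C) ∧
    (DirectSum.decompose 𝒜 (a ^ m) (m * C) : A) = (DirectSum.decompose 𝒜 a C : A) ^ m
  | 0 => by
    rw [pow_zero, pow_zero, zero_mul]
    exact ⟨degLE_one, DirectSum.decompose_of_mem_same 𝒜 SetLike.GradedOne.one_mem⟩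
  | m + 1 => by
    obtain ⟨h1, h2⟩ := comp_pow ha m
    obtain ⟨h3, h4⟩ := comp_mul h1 ha
    rw [pow_succ, pow_succ, Nat.succ_mul]
    exact ⟨h3, by rw [h4, h2]⟩

variable (ℳ) in
theorem mccoy {ι : Type*} : ∀ (k : ℕ) (s : Finset ι) (p : ι → ℕ) (w : ι → M) (r : A) (C : ℕ),
    s.card = k → Set.InjOn p s → (∀ d ∈ s, w d ∈ ℳ (p d)) → DegLE 𝒜 r C → r • ∑ d ∈ s, w d = 0 →
      ∀ d ∈ s, (DirectSum.decompose 𝒜 r C : A) ^ k • w d = 0 := by
  classical
  intro k
  induction k with
  | zero => intro s p w r C hs _ _ _ _ d hd; simp [Finset.card_eq_zero.1 hs] at hd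
  | succ k ih =>
    intro s p w r C hs hp hw hr hz d hd
    set rC := (DirectSum.decompose 𝒜 r C : A) with hrC
    obtain ⟨D, hD, hmax⟩ := s.exists_max_image p ⟨d, hd⟩
    have hD0 : rC • w D = 0 := by
      have h1 := congrArg (comp ℳ (C + p D)) hz
      rw [Finset.smul_sum, comp_sum, comp_zero, Finset.sum_eq_single D (fun e he hne => ?_)
        (fun h => absurd hD h), comp_smul_add 𝒜 (hw D hD)] at h1
      · exact h1
      · have hlt : p e < p D := lt_of_le_of_ne (hmax e he) fun h => hne (hp he hD h)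
        obtain ⟨c, hc⟩ : ∃ c, C + p D = c + p e := ⟨C + p D - p e, by omega⟩
        rw [hc, comp_smul_add 𝒜 (hw e he), hr c (by omega), zero_smul]
    rcases eq_or_ne d D with rfl | hne
    · rw [pow_succ, mul_smul, hD0, smul_zero]
    · have h2 := ih (s.erase D) (fun e => C + p e) (fun e => rC • w e) r C
        (by rw [Finset.card_erase_of_mem hD, hs]; omega)
        (fun a ha b hb hab => hp (Finset.mem_of_mem_erase ha) (Finset.mem_of_mem_erase hb)
          (Nat.add_left_cancel (show C + p a = C + p b from hab)))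
        (fun e he => SetLike.GradedSMul.smul_mem (A := 𝒜) (i := C) (SetLike.coe_mem (DirectSum.decompose 𝒜 r C))
          (hw e (Finset.mem_of_mem_erase he))) hr
        (by rw [Finset.sum_erase (f := fun e => rC • w e) _ hD0, ← Finset.smul_sum, smul_comm, hz, smul_zero]) d
        (Finset.mem_erase.2 ⟨hne, hd⟩)
      rwa [smul_smul, ← pow_succ] at h2

variable (𝒜 ℳ) in
include 𝒜 in
/-- If `r` kills a sum of homogeneous elements of distinct degrees, a power of `r` kills each of them. -/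
theorem exists_pow_smul_comp {ι : Type*} (s : Finset ι) (p : ι → ℕ) (w : ι → M) (hp : Set.InjOn p s)
    (hw : ∀ d ∈ s, w d ∈ ℳ (p d)) {r : A} (hz : r • ∑ d ∈ s, w d = 0) {d : ι} (hd : d ∈ s) :
    ∃ m : ℕ, r ^ m • w d = 0 := by
  classical
  let T : Ideal A := LinearMap.ker (LinearMap.toSpanSingleton A M (w d))
  let Z : Ideal A := LinearMap.ker (LinearMap.toSpanSingleton A M (∑ e ∈ s, w e))
  suffices key : ∀ C (a : A), DegLE 𝒜 a C → a ∈ Z.radical → a ∈ T.radical by
    obtain ⟨C, hC⟩ : ∃ C, DegLE 𝒜 r C := ⟨(DirectSum.decompose 𝒜 r).support.sup id, fun c hc => by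
      rw [DFinsupp.notMem_support_iff.1 fun h => absurd (Finset.le_sup (f := id) h) (not_le.2 hc),
        ZeroMemClass.coe_zero]⟩
    exact key C r hC (Ideal.le_radical hz)
  have hTZ : ∀ (a : A) (C : ℕ), DegLE 𝒜 a C → a ∈ Z.radical → (DirectSum.decompose 𝒜 a C : A) ∈ T.radical := by
    intro a C ha ⟨m, hm⟩
    obtain ⟨h1, h2⟩ := comp_pow ha m
    have h3 := mccoy ℳ _ s p w (a ^ m) (m * C) rfl hp hw h1 hm d hd
    rw [h2, ← pow_mul] at h3
    exact ⟨_, h3⟩
  intro C
  induction C with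
  | zero =>
    intro a ha haZ
    have := hTZ a 0 ha haZ
    rwa [show (DirectSum.decompose 𝒜 a 0 : A) = a by
      conv_rhs => rw [← DirectSum.sum_support_decompose 𝒜 a]
      rw [Finset.sum_eq_single 0 (fun c _ hc => ha c (Nat.pos_of_ne_zero hc))
        fun h => by rw [DFinsupp.notMem_support_iff.1 h]; rfl]] at this
  | succ C ih =>
    intro a ha haZ
    have h1 := hTZ a (C + 1) ha haZ
    have hZ : (DirectSum.decompose 𝒜 a (C + 1) : A) ∈ Z.radical := by
      suffices hle : ∀ e ∈ s, ∃ m, (DirectSum.decompose 𝒜 a (C + 1) : A) ^ m • w e = 0 by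
        choose m hm using hle
        refine ⟨s.attach.sup fun e => m e.1 e.2, ?_⟩
        show ((DirectSum.decompose 𝒜 a (C + 1) : A) ^ (s.attach.sup fun e => m e.1 e.2)) • ∑ e ∈ s, w e = 0
        rw [Finset.smul_sum]
        refine Finset.sum_eq_zero fun e he => ?_
        obtain ⟨j, hj⟩ := Nat.exists_eq_add_of_le (show m e he ≤ s.attach.sup fun e => m e.1 e.2 from
          Finset.le_sup (f := fun e : {x // x ∈ s} => m e.1 e.2) (Finset.mem_attach s ⟨e, he⟩))
        rw [hj, pow_add, mul_comm, mul_smul, hm e he, smul_zero]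
      intro e he
      obtain ⟨m, hm⟩ := haZ
      obtain ⟨h2, h3⟩ := comp_pow ha m
      have h4 := mccoy ℳ _ s p w (a ^ m) (m * (C + 1)) rfl hp hw h2 hm e he
      rw [h3, ← pow_mul] at h4
      exact ⟨_, h4⟩
    have h5 := ih (a - (DirectSum.decompose 𝒜 a (C + 1) : A)) (fun c hc => by
      rw [DirectSum.decompose_sub, DFinsupp.sub_apply, AddSubgroupClass.coe_sub]
      rcases eq_or_ne c (C + 1) with rfl | hne
      · rw [DirectSum.decompose_of_mem_same 𝒜 (SetLike.coe_mem _), sub_self]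
      · rw [ha c (by omega), DirectSum.decompose_of_mem_ne 𝒜 (SetLike.coe_mem _) hne.symm, sub_zero])
      (Ideal.sub_mem _ haZ hZ)
    simpa using Ideal.add_mem _ h5 h1

variable (𝒜 ℳ) in
include 𝒜 in
/-- Fractions of distinct degrees are independent in the localization at a prime. -/
theorem mk_eq_zero_of_sum_eq_zero {ι : Type*} (s : Finset ι) (p : ι → ℕ) (w : ι → M) (hp : Set.InjOn p s)
    (hw : ∀ d ∈ s, w d ∈ ℳ (p d)) (P : Ideal A) [P.IsPrime]
    (h : ∑ d ∈ s, (LocalizedModule.mk (w d) 1 : LocalizedModule P.primeCompl M) = 0) {d : ι} (hd : d ∈ s) :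
    (LocalizedModule.mk (w d) 1 : LocalizedModule P.primeCompl M) = 0 := by
  have h1 : (LocalizedModule.mk (∑ e ∈ s, w e) 1 : LocalizedModule P.primeCompl M) = 0 :=
    (map_sum (LocalizedModule.mkLinearMap P.primeCompl M) w s).trans h
  rw [← LocalizedModule.zero_mk 1, LocalizedModule.mk_eq] at h1
  obtain ⟨u, hu⟩ := h1
  simp only [smul_zero, one_smul] at hu
  obtain ⟨m, hm⟩ := exists_pow_smul_comp 𝒜 ℳ s p w hp hw (r := (u : A)) hu hd
  rw [← LocalizedModule.zero_mk 1, LocalizedModule.mk_eq]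
  exact ⟨u ^ m, by simpa [Submonoid.smul_def] using hm⟩

end GrAlphaLib

end
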