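import Groth.Agent.GrAlphaLib.Bound
import Groth.Agent.GrModLib6.Comap

/-!
# The algebraic form of bijectivity: change of generators and localisation
-/

set_option autoImplicit false
set_option linter.unusedSectionVars false

universe u

open CategoryTheory AlgebraicGeometry DirectSum

noncomputable section

namespace GrAlphaLib

variable {A σ : Type u} [CommRing A] [SetLike σ A] [AddSubgroupClass σ A] {𝒜 : ℕ → σ} [GradedRing 𝒜]
  {M τ : Type u} [AddCommGroup M] [Module A M] [SetLike τ M] [AddSubgroupClass τ M] {ℳ : ℕ → τ}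
  [SetLike.GradedSMul 𝒜 ℳ] [DirectSum.Decomposition ℳ]

theorem exists_pow_smul_of_mem_radical {ι : Type*} (g : ι → A) {x : M} (h : ∀ i, ∃ l, g i ^ l • x = 0)
    {a : A} (ha : a ∈ (Ideal.span (Set.range g)).radical) : ∃ q, a ^ q • x = 0 := by
  have : Ideal.span (Set.range g) ≤ Ideal.radical (LinearMap.ker (LinearMap.toSpanSingleton A M x)) := by
    rw [Ideal.span_le]
    rintro _ ⟨i, rfl⟩
    obtain ⟨l, hl⟩ := h i
    exact ⟨l, hl⟩
  obtain ⟨q, hq⟩ := Ideal.radical_le_radical_iff.mpr this ha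
  exact ⟨q, hq⟩

theorem radical_span_pow {ι : Type*} (g : ι → A) (k : ℕ) :
    (Ideal.span (Set.range g)).radical ≤ (Ideal.span (Set.range fun i => g i ^ k)).radical := by
  rw [Ideal.radical_le_radical_iff, Ideal.span_le]
  rintro _ ⟨i, rfl⟩
  exact ⟨k, Ideal.subset_span ⟨i, rfl⟩⟩

variable {ι κ : Type*} [Fintype ι] [Fintype κ] {f : ι → A} {d : ι → ℕ} {g : κ → A} {e : κ → ℕ}

open scoped Classical in
theorem Sol.change (hf : ∀ i, f i ∈ 𝒜 (d i)) (hg : ∀ j, g j ∈ 𝒜 (e j))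
    (hfg : ∀ i, f i ∈ (Ideal.span (Set.range g)).radical)
    (hgf : ∀ j, g j ∈ (Ideal.span (Set.range f)).radical) {n : ℕ} (h : Sol ℳ f d n) : Sol ℳ g e n := by
  refine ⟨fun m hm h0 => h.inj m hm fun i => exists_pow_smul_of_mem_radical g h0 (hfg i),
    fun k z hz hc => ?_⟩
  choose q₀ hq₀ using fun i => radical_span_pow g k (hfg i)
  let q := Finset.univ.sup q₀
  have hq : ∀ i, f i ^ q ∈ Ideal.span (Set.range fun j => g j ^ k) := fun i => by
    rw [← Nat.sub_add_cancel (show q₀ i ≤ q from Finset.le_sup (Finset.mem_univ i)), pow_add]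
    exact Ideal.mul_mem_left _ _ (hq₀ i)
  choose c hc' using fun i => (Submodule.mem_span_range_iff_exists_fun A).mp (hq i)
  let c' : ι → κ → A := fun i j => if k * e j ≤ q * d i then
    (DirectSum.decompose 𝒜 (c i j) (q * d i - k * e j) : A) else 0
  have hsum : ∀ i, f i ^ q = ∑ j, c' i j * g j ^ k := by
    intro i
    conv_lhs => rw [← DirectSum.decompose_of_mem_same 𝒜
      (show f i ^ q ∈ 𝒜 (q * d i) from SetLike.pow_mem_graded q (hf i)), ← hc' i,
      DirectSum.decompose_sum, DFinsupp.finsetSum_apply, AddSubmonoidClass.coe_finsetSum]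
    refine Finset.sum_congr rfl fun j _ => ?_
    have hgk : g j ^ k ∈ 𝒜 (k * e j) := SetLike.pow_mem_graded k (hg j)
    simp only [c', smul_eq_mul]
    split_ifs with hle
    · exact DirectSum.coe_decompose_mul_of_right_mem_of_le 𝒜 hgk hle
    · rw [zero_mul]; exact DirectSum.coe_decompose_mul_of_right_mem_of_not_le 𝒜 hgk hle
  let w : ι → M := fun i => ∑ j, c' i j • z j
  have hw : ∀ i, w i ∈ ℳ (n + q * d i) := fun i => by
    refine sum_mem fun j _ => ?_
    simp only [c']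
    split_ifs with hle
    · have h1 : (DirectSum.decompose 𝒜 (c i j) (q * d i - k * e j) : A) • z j ∈
          ℳ ((q * d i - k * e j) + (n + k * e j)) :=
        SetLike.GradedSMul.smul_mem (DirectSum.decompose 𝒜 (c i j) (q * d i - k * e j)).2 (hz j)
      rwa [show (q * d i - k * e j) + (n + k * e j) = n + q * d i by omega] at h1
    · rw [zero_smul]; exact zero_mem _
  have hwg : ∀ i j, g j ^ k • w i = f i ^ q • z j := by
    intro i j
    rw [hsum i, Finset.smul_sum, Finset.sum_smul]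
    refine Finset.sum_congr rfl fun j' _ => ?_
    rw [smul_comm, hc j' j, mul_smul]
  obtain ⟨m, hm, hl⟩ := h.surj q w hw fun i i' => by
    rw [hsum i', Finset.sum_smul]
    conv_rhs => simp only [w, Finset.smul_sum]
    refine Finset.sum_congr rfl fun j _ => ?_
    rw [mul_smul, hwg i j, smul_comm]
  refine ⟨m, hm, fun j => exists_pow_smul_of_mem_radical f (fun i => ?_) (hgf j)⟩
  obtain ⟨l, hl⟩ := hl i
  refine ⟨l + q, ?_⟩
  have e1 : f i ^ q • (g j ^ k • m - z j) = g j ^ k • (f i ^ q • m - w i) := by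
    rw [smul_sub, smul_sub, smul_comm (f i ^ q), hwg]
  rw [pow_add, mul_smul, e1, smul_comm, hl, smul_zero]

section Down

variable {B σ' : Type u} [CommRing B] [SetLike σ' B] [AddSubgroupClass σ' B] {ℬ : ℕ → σ'} [GradedRing ℬ]
  {N τ' : Type u} [AddCommGroup N] [Module B N] [SetLike τ' N] [AddSubgroupClass τ' N] {𝒩 : ℕ → τ'}
  [SetLike.GradedSMul ℬ 𝒩] [DirectSum.Decomposition 𝒩]
  {ψ : 𝒜 →+*ᵍ ℬ} {v : M →ₛₗ[ψ.toRingHom] N}

theorem Sol.localize (hv : ∀ (i : ℕ) (m : M), m ∈ ℳ i → v m ∈ 𝒩 i) {c : A}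
    (hI : GrModLib6.IsInverting ψ v c) (hf : ∀ i, f i ∈ 𝒜 (d i)) {n : ℕ} (h : Sol ℳ f d n) :
    Sol 𝒩 (fun i => ψ (f i)) d n := by
  have hunit : ∀ (k : ℕ) (x : N), ψ c ^ k • x = 0 → x = 0 := fun k x hx =>
    (IsUnit.smul_eq_zero (hI.unit.pow k)).mp hx
  have hck : ∀ k, ψ c ^ k ∈ ℬ 0 := fun k => by
    simpa using SetLike.pow_mem_graded k (ψ.map_mem hI.mem)
  have hcA : ∀ (k p : ℕ) (y : M), y ∈ ℳ p → c ^ k • y ∈ ℳ p := fun k p y hy => by
    have h0 : c ^ k ∈ 𝒜 0 := by simpa using SetLike.pow_mem_graded k hI.mem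
    simpa using (SetLike.GradedSMul.smul_mem h0 hy : c ^ k • y ∈ ℳ (0 + p))
  have hvs : ∀ (a : A) (y : M), v (a • y) = ψ a • v y := fun a y => v.map_smulₛₗ a y
  refine ⟨fun x hx h0 => ?_, fun k z hz hc => ?_⟩
  · obtain ⟨k, m, hm, hvm⟩ := hI.exists_num hv hx
    have h1 : ∀ i, ∃ l b, c ^ b • (f i ^ l • m) = 0 := fun i => by
      obtain ⟨l, hl⟩ := h0 i
      refine ⟨l, hI.kerN _ ?_⟩
      rw [hvs, map_pow, hvm, smul_comm, hl, smul_zero]
    choose l b hb using h1
    let b₀ := Finset.univ.sup b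
    have hm0 : c ^ b₀ • m = 0 := h.inj _ (hcA _ _ _ hm) fun i => ⟨l i, by
      rw [smul_comm, ← Nat.sub_add_cancel (show b i ≤ b₀ from Finset.le_sup (Finset.mem_univ i)), pow_add,
        mul_smul, hb, smul_zero]⟩
    refine hunit (b₀ + k) x ?_
    rw [pow_add, mul_smul, ← hvm, ← map_pow, ← hvs, hm0, map_zero]
  · choose a w hw hvw using fun i => hI.exists_num hv (hz i)
    let a₀ := Finset.univ.sup a
    let w₁ : ι → M := fun i => c ^ (a₀ - a i) • w i
    have hw₁ : ∀ i, v (w₁ i) = ψ c ^ a₀ • z i := fun i => by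
      rw [hvs, map_pow, hvw, ← mul_smul, ← pow_add,
        Nat.sub_add_cancel (show a i ≤ a₀ from Finset.le_sup (Finset.mem_univ i))]
    have h1 : ∀ i j, ∃ b, c ^ b • (f j ^ k • w₁ i - f i ^ k • w₁ j) = 0 := fun i j => by
      refine hI.kerN _ ?_
      rw [map_sub, hvs (f j ^ k) (w₁ i), hvs (f i ^ k) (w₁ j), map_pow, map_pow, hw₁, hw₁, smul_comm, hc i j, smul_comm, sub_self]
    choose b hb using h1
    let b₀ := Finset.univ.sup fun ij : ι × ι => b ij.1 ij.2
    obtain ⟨m, hm, hl⟩ := h.surj k (fun i => c ^ b₀ • w₁ i)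
      (fun i => hcA _ _ _ (hcA _ _ _ (hw i))) fun i j => by
        have hle : b i j ≤ b₀ := Finset.le_sup (f := fun ij : ι × ι => b ij.1 ij.2) (Finset.mem_univ (i, j))
        have hb' := hb i j
        rw [smul_sub, sub_eq_zero] at hb'
        rw [smul_comm, smul_comm (f i ^ k), ← Nat.sub_add_cancel hle, pow_add, mul_smul, hb', mul_smul]
    obtain ⟨u, hu⟩ := hI.unit.pow (b₀ + a₀)
    let x₀ : N := (↑u⁻¹ : B) • v m
    have hx₀ : ψ c ^ (b₀ + a₀) • comp 𝒩 n x₀ = v m := by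
      rw [← comp_smul_homog (hck (b₀ + a₀)) n x₀, Nat.zero_add, ← hu, ← mul_smul, Units.mul_inv, one_smul,
        comp_of_mem (hv n m hm)]
    refine ⟨comp 𝒩 n x₀, comp_mem n x₀, fun i => ?_⟩
    obtain ⟨l, hl⟩ := hl i
    refine ⟨l, hunit (b₀ + a₀) _ ?_⟩
    rw [smul_comm, smul_sub, smul_comm (ψ c ^ (b₀ + a₀)), hx₀, pow_add, mul_smul, ← hw₁]
    simp only [← map_pow, ← hvs, ← map_sub, hl, map_zero]

end Down

end GrAlphaLib
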