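import Groth.Agent.GrAlphaLib.Main
import Groth.Agent.GrAlphaLib.Sol
import Groth.Agent.GrModLib6.RelExist

/-!
# A uniform bound over a Noetherian base
-/

set_option autoImplicit false
set_option linter.unusedSectionVars false

universe u

open CategoryTheory CategoryTheory.Limits AlgebraicGeometry TopologicalSpace Opposite DirectSum
open scoped HomogeneousIdeal

noncomputable section

namespace GrAlphaLib

open GrModLib6 (Aff IsBasic)

variable {Y : Scheme.{u}} (𝒮 : RelProj.QCGrAlg Y)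

/-- Generators of the irrelevant ideal over an affine open. -/
structure Gens (i : Aff Y) where
  T : Finset (𝒮.presheaf.obj (op i.1) × ℕ)
  pos : ∀ t ∈ T, 0 < t.2 ∧ t.1 ∈ 𝒮.deg i.1 i.2 t.2
  span_eq : (HomogeneousIdeal.irrelevant (𝒮.deg i.1 i.2)).toIdeal = Ideal.span (Set.range fun t : T => t.1.1)

variable {𝒮}

theorem span_res {i k : Aff Y} (h : IsBasic i k) (G : Gens 𝒮 i) :
    (HomogeneousIdeal.irrelevant (𝒮.deg k.1 k.2)).toIdeal =
      Ideal.span (Set.range fun t : G.T => 𝒮.res i.2 k.2 h.le t.1.1) := by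
  refine le_antisymm ?_ (Ideal.span_le.mpr ?_)
  · refine le_trans (h.irr 𝒮) ?_
    change Ideal.map (𝒮.res i.2 k.2 h.le) (HomogeneousIdeal.irrelevant (𝒮.deg i.1 i.2)).toIdeal ≤ _
    rw [G.span_eq, Ideal.map_span, Ideal.span_le]
    rintro _ ⟨_, ⟨t, rfl⟩, rfl⟩
    exact Ideal.subset_span ⟨t, rfl⟩
  · rintro _ ⟨t, rfl⟩
    exact GrModLib6.mem_irrelevant_of_mem _ (G.pos t.1 t.2).1
      ((𝒮.res i.2 k.2 h.le).map_mem (G.pos t.1 t.2).2)

variable (ℳ : RelProj.GrModule 𝒮)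

/-- The solvability on `k` with generators restricted from `i`. -/
def SolAt {i k : Aff Y} (h : IsBasic i k) (G : Gens 𝒮 i) (n : ℕ) : Prop :=
  Sol (ℳ.deg k.1 k.2) (fun t : G.T => 𝒮.res i.2 k.2 h.le t.1.1) (fun t : G.T => t.1.2) n

variable {ℳ}

theorem solAt_change {i j k : Aff Y} {hi : IsBasic i k} {hj : IsBasic j k} {Gi : Gens 𝒮 i} {Gj : Gens 𝒮 j}
    {n : ℕ} (h : SolAt ℳ hi Gi n) : SolAt ℳ hj Gj n := by
  refine Sol.change (fun t : Gi.T => (𝒮.res i.2 k.2 hi.le).map_mem (Gi.pos t.1 t.2).2)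
    (fun t : Gj.T => (𝒮.res j.2 k.2 hj.le).map_mem (Gj.pos t.1 t.2).2) (fun t => ?_) (fun t => ?_) h
  · exact Ideal.le_radical ((span_res hj Gj).le ((span_res hi Gi).ge (Ideal.subset_span ⟨t, rfl⟩)))
  · exact Ideal.le_radical ((span_res hi Gi).le ((span_res hj Gj).ge (Ideal.subset_span ⟨t, rfl⟩)))

variable (hℳ : Coh.IsQCoh ((AMod.toOS 𝒮.toQCAlg).obj ℳ.mod))

include hℳ

theorem solAt_trans {i j k : Aff Y} (h : IsBasic i j) (h' : IsBasic j k) {G : Gens 𝒮 i} {n : ℕ}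
    (hs : SolAt ℳ h G n) : SolAt ℳ (h.trans h') G n := by
  obtain ⟨c, hc⟩ := GrModLib6.isInverting_res ℳ hℳ h'
  have := Sol.localize (𝒩 := ℳ.deg k.1 k.2) (v := ℳ.res j.2 k.2 h'.le)
    (fun a m hm => ℳ.res_mem j.2 k.2 h'.le a m hm) hc
    (fun t : G.T => (𝒮.res i.2 j.2 h.le).map_mem (G.pos t.1 t.2).2) hs
  have e : (fun t : G.T => 𝒮.res j.2 k.2 h'.le (𝒮.res i.2 j.2 h.le t.1.1)) =
      fun t : G.T => 𝒮.res i.2 k.2 (h.trans h').le t.1.1 :=
    funext fun t => GrModLib6.res_res i j k h.le h'.le t.1.1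
  unfold SolAt
  convert this using 1
  exact e.symm

theorem solAt_of_sol {i k : Aff Y} (h : IsBasic i k) {G : Gens 𝒮 i} {n : ℕ}
    (hs : Sol (ℳ.deg i.1 i.2) (fun t : G.T => t.1.1) (fun t : G.T => t.1.2) n) : SolAt ℳ h G n := by
  obtain ⟨c, hc⟩ := GrModLib6.isInverting_res ℳ hℳ h
  exact Sol.localize (𝒩 := ℳ.deg k.1 k.2) (v := ℳ.res i.2 k.2 h.le)
    (fun a m hm => ℳ.res_mem i.2 k.2 h.le a m hm) hc (fun t : G.T => (G.pos t.1 t.2).2) hs

omit hℳ in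
theorem comp_res {i k : Aff Y} (hle : k.1 ≤ i.1) (m : ℳ.mod.val.obj (op i.1)) (n : ℕ) :
    ℳ.res i.2 k.2 hle (comp (ℳ.deg i.1 i.2) n m) = comp (ℳ.deg k.1 k.2) n (ℳ.res i.2 k.2 hle m) := by
  classical
  exact GrModLib6.decompose_semilinear (𝒮.res i.2 k.2 hle) (ℳ.res i.2 k.2 hle)
    (fun a m hm => ℳ.res_mem i.2 k.2 hle a m hm) m n

theorem sol_of_cover (i : Aff Y) (G : Gens 𝒮 i) {n : ℕ} {κ : Type u} [Fintype κ] (V : κ → Aff Y)
    (hV : ∀ s, IsBasic i (V s)) (hcov : i.1 ≤ ⨆ s, (V s).1) (hs : ∀ s, SolAt ℳ (hV s) G n) :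
    Sol (ℳ.deg i.1 i.2) (fun t : G.T => t.1.1) (fun t : G.T => t.1.2) n := by
  classical
  let Mo : Y.Modules := (AMod.toOS 𝒮.toQCAlg).obj ℳ.mod
  let Sh : TopCat.Sheaf AddCommGrpCat.{u} Y.toTopCat := (QCohLib.toAbF Y).obj Mo
  have sep : ∀ a b : ℳ.mod.val.obj (op i.1),
      (∀ s, ℳ.res i.2 (V s).2 (hV s).le a = ℳ.res i.2 (V s).2 (hV s).le b) → a = b := fun a b h =>
    TopCat.Sheaf.eq_of_locally_eq' Sh (fun s => (V s).1) i.1 (fun s => homOfLE (hV s).le) hcov a b h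
  have hzero : ∀ a : ℳ.mod.val.obj (op i.1),
      (∀ s, ℳ.res i.2 (V s).2 (hV s).le a = 0) → a = 0 := fun a h =>
    sep a 0 fun s => (h s).trans (map_zero _).symm
  have hres : ∀ {s : κ} (a : 𝒮.presheaf.obj (op i.1)) (m : ℳ.mod.val.obj (op i.1)),
      ℳ.res i.2 (V s).2 (hV s).le (a • m) = 𝒮.res i.2 (V s).2 (hV s).le a • ℳ.res i.2 (V s).2 (hV s).le m :=
    fun {s} a m => (ℳ.res i.2 (V s).2 (hV s).le).map_smulₛₗ a m
  refine ⟨fun m hm h0 => hzero m fun s => (hs s).inj _ (ℳ.res_mem i.2 _ (hV s).le n m hm) fun t => ?_,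
    fun k z hz hc => ?_⟩
  · obtain ⟨l, hl⟩ := h0 t
    exact ⟨l, by rw [← map_pow, ← hres, hl, map_zero]⟩
  have hsol : ∀ s, ∃ m ∈ ℳ.deg (V s).1 (V s).2 n, ∀ t : G.T, ∃ l, 𝒮.res i.2 (V s).2 (hV s).le t.1.1 ^ l •
      (𝒮.res i.2 (V s).2 (hV s).le t.1.1 ^ k • m - ℳ.res i.2 (V s).2 (hV s).le (z t)) = 0 := fun s =>
    (hs s).surj k (fun t => ℳ.res i.2 (V s).2 (hV s).le (z t)) (fun t => ℳ.res_mem i.2 _ _ _ _ (hz t))
      fun a b => by rw [← map_pow, ← map_pow, ← hres, ← hres, hc a b]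
  choose m hm l hl using hsol
  choose r hr using fun s => hV s
  let V' : κ → κ → Aff Y := fun s t => ⟨Y.basicOpen (r s * r t), i.2.basicOpen _⟩
  have hle₁ : ∀ s t, (V' s t).1 ≤ (V s).1 := fun s t => by
    rw [hr s]; exact (Y.basicOpen_mul _ _).le.trans inf_le_left
  have hle₂ : ∀ s t, (V' s t).1 ≤ (V t).1 := fun s t => by
    rw [hr t]; exact (Y.basicOpen_mul _ _).le.trans inf_le_right
  have hb₁ : ∀ s t, IsBasic (V s) (V' s t) := fun s t =>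
    ⟨Y.presheaf.map (homOfLE (hV s).le).op (r t), by
      rw [Scheme.basicOpen_res, hr s]
      exact Y.basicOpen_mul _ _⟩
  have hagree : ∀ s t, ℳ.res (V s).2 (V' s t).2 (hle₁ s t) (m s) = ℳ.res (V t).2 (V' s t).2 (hle₂ s t) (m t) := by
    intro s t
    rw [← sub_eq_zero]
    refine (solAt_trans hℳ (hV s) (hb₁ s t) (hs s)).inj _
      (sub_mem (ℳ.res_mem _ _ _ _ _ (hm s)) (ℳ.res_mem _ _ _ _ _ (hm t))) fun a => ⟨l s a + l t a + k, ?_⟩
    let F : (x : κ) → (hle : (V' s t).1 ≤ (V x).1) → (ℳ.mod.val.obj (op (V' s t).1)) := fun x hle =>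
      ℳ.res (V x).2 (V' s t).2 hle (m x)
    let fa := 𝒮.res i.2 (V' s t).2 ((hle₁ s t).trans (hV s).le) a.1.1
    let za := ℳ.res i.2 (V' s t).2 ((hle₁ s t).trans (hV s).le) (z a)
    have key : ∀ x (hle : (V' s t).1 ≤ (V x).1), fa ^ l x a • (fa ^ k • F x hle - za) = 0 := by
      intro x hle
      have h2 := congrArg (ℳ.res (V x).2 (V' s t).2 hle) (hl x a)
      rw [map_zero] at h2
      refine Eq.trans ?_ h2
      refine Eq.symm (((ℳ.res (V x).2 (V' s t).2 hle).map_smulₛₗ _ _).trans ?_)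
      have e1 : 𝒮.res (V x).2 (V' s t).2 hle (𝒮.res i.2 (V x).2 (hV x).le a.1.1) = fa :=
        GrModLib6.res_res i (V x) (V' s t) _ _ _
      have e2 : ℳ.res (V x).2 (V' s t).2 hle (ℳ.res i.2 (V x).2 (hV x).le (z a)) = za :=
        GrModLib6.ires_ires ℳ i (V x) (V' s t) _ _ _
      rw [map_sub]
      have e3 : ∀ (q : ℕ), (𝒮.res (V x).2 (V' s t).2 hle).toRingHom (𝒮.res i.2 (V x).2 (hV x).le a.1.1 ^ q) = fa ^ q :=
        fun q => (map_pow _ _ q).trans (congrArg (· ^ q) e1)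
      rw [LinearMap.map_smulₛₗ, e2, e3, e3]
    change fa ^ (l s a + l t a + k) • (F s (hle₁ s t) - F t (hle₂ s t)) = 0
    rw [pow_add fa (l s a + l t a) k, mul_smul, smul_sub (fa ^ k), ← sub_sub_sub_cancel_right _ _ za, smul_sub,
      pow_add fa (l s a) (l t a), mul_smul (fa ^ l s a) (fa ^ l t a) (fa ^ k • F t (hle₂ s t) - za),
      key t (hle₂ s t), smul_zero, sub_zero, mul_comm, mul_smul, key s (hle₁ s t), smul_zero]
  have hc' : ∀ s t, Sh.obj.map (Opens.infLELeft (V s).1 (V t).1).op (m s) =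
      Sh.obj.map (Opens.infLERight (V s).1 (V t).1).op (m t) := by
    intro s t
    have e : (V s).1 ⊓ (V t).1 = (V' s t).1 := by rw [hr s, hr t]; exact (Y.basicOpen_mul _ _).symm
    apply (ConcreteCategory.bijective_of_isIso (Sh.obj.map (eqToHom e.symm).op)).1
    refine (ConcreteCategory.congr_hom (Sh.obj.map_comp _ _).symm (m s)).trans ?_
    refine (hagree s t).trans ?_
    exact ConcreteCategory.congr_hom (Sh.obj.map_comp (Opens.infLERight (V s).1 (V t).1).op (eqToHom e.symm).op) (m t)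
  obtain ⟨g, hg, -⟩ := TopCat.Sheaf.existsUnique_gluing' Sh (fun s => (V s).1) i.1
    (fun s => homOfLE (hV s).le) hcov (fun s => m s) (fun s t => hc' s t)
  let g₀ : ℳ.mod.val.obj (op i.1) := g
  refine ⟨comp (ℳ.deg i.1 i.2) n g₀, comp_mem n g₀, fun t => ⟨Finset.univ.sup fun s => l s t, hzero _ fun s => ?_⟩⟩
  have hg' : ℳ.res i.2 (V s).2 (hV s).le (comp (ℳ.deg i.1 i.2) n g₀) = m s := by
    rw [comp_res]
    exact (congrArg (comp (ℳ.deg (V s).1 (V s).2) n) (hg s)).trans (comp_of_mem (hm s))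
  have hle : l s t ≤ Finset.univ.sup fun s => l s t := Finset.le_sup (f := fun s => l s t) (Finset.mem_univ s)
  rw [hres, map_sub, hres, hg', map_pow, map_pow, ← Nat.sub_add_cancel hle, pow_add, mul_smul, hl, smul_zero]

theorem exists_uniform_bound [AlgebraicGeometry.IsNoetherian Y]
    (hft : ∀ (U : Y.Opens) (hU : IsAffineOpen U), (𝒮.str.app (op U)).hom.FiniteType) (hTF : ℳ.IsTF) :
    ∃ N : ℕ, ∀ n : ℕ, N ≤ n → ∀ (U : Y.Opens) (hU : IsAffineOpen U),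
      Function.Bijective (GrMod.alpha (𝒮.deg U hU) (ℳ.deg U hU) n) := by
  classical
  obtain ⟨k₀, hk₀⟩ := hTF
  have hN : ∀ i : Aff Y, IsNoetherianRing (𝒮.presheaf.obj (op i.1)) := fun i => by
    haveI : IsNoetherianRing Γ(Y, i.1) := IsLocallyNoetherian.component_noetherian ⟨i.1, i.2⟩
    let _ := (𝒮.str.app (op i.1)).hom.toAlgebra
    haveI : Algebra.FiniteType Γ(Y, i.1) (𝒮.presheaf.obj (op i.1)) := hft i.1 i.2
    exact Algebra.FiniteType.isNoetherianRing Γ(Y, i.1) _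
  have hG : ∀ i : Aff Y, Nonempty (Gens 𝒮 i) := fun i => by
    haveI := hN i
    obtain ⟨T, hT, hspan⟩ := exists_generators (𝒮.deg i.1 i.2)
    exact ⟨⟨T, hT, hspan⟩⟩
  let G : ∀ i : Aff Y, Gens 𝒮 i := fun i => (hG i).some
  have hD : ∀ i : Aff Y, ∃ D, ∀ n, D ≤ n →
      Sol (ℳ.deg i.1 i.2) (fun t : (G i).T => t.1.1) (fun t : (G i).T => t.1.2) n := fun i => by
    haveI := hN i
    exact exists_sol ⟨k₀, hk₀ i.1 i.2⟩ (G i).pos (G i).span_eq
  choose D hD using hD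
  have hA : ∀ y : Y, ∃ i : Aff Y, y ∈ i.1 := fun y => by
    obtain ⟨W, hW, hy, -⟩ := exists_isAffineOpen_mem_and_subset (X := Y) (x := y) (U := ⊤) trivial
    exact ⟨⟨W, hW⟩, hy⟩
  choose A hA using hA
  obtain ⟨S, hS⟩ := isCompact_univ.elim_finite_subcover (fun y => ((A y).1 : Set Y)) (fun y => (A y).1.isOpen)
    fun y _ => Set.mem_iUnion.mpr ⟨y, hA y⟩
  refine ⟨S.sup fun y => D (A y), fun n hn U hU => ?_⟩
  let i : Aff Y := ⟨U, hU⟩
  have hsol : Sol (ℳ.deg U hU) (fun t : (G i).T => t.1.1) (fun t : (G i).T => t.1.2) n := by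
    have hk : ∀ x : U, ∃ k : Aff Y, x.1 ∈ k.1 ∧ ∃ h : IsBasic i k, SolAt ℳ h (G i) n := by
      intro x
      obtain ⟨y, hy, hxy⟩ := Set.mem_iUnion₂.mp (hS (Set.mem_univ x.1))
      obtain ⟨k, h1, h2, hxk⟩ := GrModLib6.exists_isBasic_inter (i := i) (j := A y) x.2 hxy
      refine ⟨k, hxk, h1, solAt_change (solAt_of_sol hℳ h2 (hD (A y) n ?_))⟩
      exact (Finset.le_sup (f := fun y => D (A y)) hy).trans hn
    choose k hxk hik hks using hk
    obtain ⟨S', hS'⟩ := hU.isCompact.elim_finite_subcover (fun x : U => ((k x).1 : Set Y)) (fun x => (k x).1.isOpen)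
      fun x hx => Set.mem_iUnion.mpr ⟨⟨x, hx⟩, hxk ⟨x, hx⟩⟩
    refine sol_of_cover hℳ i (G i) (κ := S') (fun x => k x.1) (fun x => hik x.1) (fun x hx => ?_) fun x => hks x.1
    obtain ⟨z, hz, hxz⟩ := Set.mem_iUnion₂.mp (hS' hx)
    exact Opens.mem_iSup.mpr ⟨⟨z, hz⟩, hxz⟩
  have hf : ∀ t : (G i).T, t.1.1 ∈ 𝒮.deg U hU t.1.2 := fun t => ((G i).pos t.1 t.2).2
  have hd : ∀ t : (G i).T, 0 < t.1.2 := fun t => ((G i).pos t.1 t.2).1
  refine ⟨?_, fun s => ?_⟩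
  · rw [injective_iff_map_eq_zero]
    intro m hm
    exact Subtype.ext (hsol.eq_zero hf hd m.2 fun x =>
      congrArg Subtype.val (congrFun (congrArg Subtype.val hm) ⟨x, trivial⟩))
  · obtain ⟨m, hm, hv⟩ := hsol.exists_mk hf hd (cover_of_span (G i).span_eq)
      (fun x => GrModLib6.val s ⟨x, trivial⟩) fun d f hd hf => by
        obtain ⟨k, j, m, hm, hj, hval⟩ := GrModLib6.exists_eq_frac hd hf
          ((GrMod.tilde (𝒮.deg U hU) (ℳ.deg U hU) (n : ℤ)).presheaf.map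
            (homOfLE (le_top : Proj.basicOpen (𝒮.deg U hU) f ≤ ⊤)).op s)
        exact ⟨k, j, m, hm, hj, fun x hx => hval ⟨x, hx⟩⟩
    exact ⟨⟨m, hm⟩, GrModLib6.sec_ext fun x => (hv x.1).symm⟩

end GrAlphaLib
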